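/-
A Fourier-integral lower bound used for the class number of coprime semidirect products.
-/
import Cfsg.Agent.Lib.CharTheory.GaloisBound
import Mathlib.GroupTheory.FiniteAbelian.Duality

namespace CfsgLib.Blocks.KGV

open CfsgLib.CharTheory
open scoped ComplexConjugate

variable {A : Type*} [CommGroup A] {n : ℕ} [NeZero n]

/-- All Fourier coefficients are algebraic integers. -/
def IntFourier [Fintype A] (f : A → rootField n) : Prop :=
  ∀ ψ : A →* ℂˣ, IsIntegral ℤ ((Fintype.card A : ℂ)⁻¹ * ∑ a, ((f a : ℂ) * (ψ a : ℂ)))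

/-- Sum of the square norms of all conjugates. -/
noncomputable def qN (x : rootField n) : ℝ :=
  ∑ σ : rootField n →ₐ[ℚ] ℂ, Complex.normSq (σ x)

theorem qN_nonneg (x : rootField n) : 0 ≤ qN x :=
  Finset.sum_nonneg fun _ _ => Complex.normSq_nonneg _

/-- The quadratic lower bound relative to a subgroup of periods. -/
def Good [Fintype A] (n : ℕ) [NeZero n] (L : Subgroup A) (δ : A → ℝ) : Prop :=
  ∀ f : A → rootField n, (∀ a, ∀ l ∈ L, f (a * l) = f a) → IntFourier f → (∃ a, f a ≠ 0) →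
    (Fintype.card (rootField n →ₐ[ℚ] ℂ) : ℝ) * (Fintype.card A : ℝ) ^ 2 ≤
      (Nat.card L : ℝ) * ∑ a, δ a * qN (f a)

theorem good_top [Fintype A] : Good (A := A) n ⊤ (fun _ => 1) := by
  intro f hf hint hne
  obtain ⟨a₀, ha₀⟩ := hne
  have hc : ∀ a, f a = f 1 := fun a => by simpa using hf 1 a (Subgroup.mem_top a)
  have h0 : f 1 ≠ 0 := hc a₀ ▸ ha₀
  have hcard : (Fintype.card A : ℂ) ≠ 0 := Nat.cast_ne_zero.mpr Fintype.card_ne_zero
  have hi : IsIntegral ℤ ((f 1 : ℂ)) := by
    have := hint 1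
    simp only [MonoidHom.one_apply, Units.val_one, mul_one] at this
    rw [Finset.sum_congr rfl fun a _ => congrArg Subtype.val (hc a), Finset.sum_const,
      Finset.card_univ, nsmul_eq_mul, inv_mul_cancel_left₀ hcard] at this
    exact this
  have h := card_le_sum_normSq (NeZero.ne n) (f 1) hi h0
  simp only [hc, one_mul, Finset.sum_const, Finset.card_univ, nsmul_eq_mul, Subgroup.card_top,
    Nat.card_eq_fintype_card]
  rw [← mul_assoc, ← sq, mul_comm]
  exact mul_le_mul_of_nonneg_left h (sq_nonneg _)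

theorem Good.mono [Fintype A] {L : Subgroup A} {δ δ' : A → ℝ} (h : Good n L δ)
    (hle : ∀ a, δ a ≤ δ' a) : Good n L δ' := fun f hf hint hne =>
  (h f hf hint hne).trans (mul_le_mul_of_nonneg_left
    (Finset.sum_le_sum fun a _ => mul_le_mul_of_nonneg_right (hle a) (qN_nonneg _)) (Nat.cast_nonneg _))

theorem mem_rootField_of_hom [Finite A] (hn : Nat.card A ∣ n) (ψ : A →* ℂˣ) (a : A) :
    (ψ a : ℂ) ∈ rootField n := by
  refine mem_rootField (NeZero.ne n) ?_
  obtain ⟨k, rfl⟩ := hn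
  rw [← Units.val_pow_eq_pow_val, ← map_pow, pow_mul, pow_card_eq_one', one_pow, map_one,
    Units.val_one]

theorem sum_sum_normSq_sub {ι : Type*} [Fintype ι] (z : ι → ℂ) :
    ∑ i, ∑ j, Complex.normSq (z i - z j) =
      2 * ((Fintype.card ι : ℝ) * ∑ i, Complex.normSq (z i) - Complex.normSq (∑ i, z i)) := by
  have e : ∀ x y : ℂ, Complex.normSq (x - y) =
      Complex.normSq x + Complex.normSq y - 2 * (x * conj y).re := Complex.normSq_sub
  simp only [e, Finset.sum_sub_distrib, Finset.sum_add_distrib, Finset.sum_const, Finset.card_univ,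
    nsmul_eq_mul, ← Finset.mul_sum, ← Complex.re_sum, ← map_sum, ← Finset.sum_mul, Complex.mul_conj,
    Complex.ofReal_re]
  ring

theorem card_le_indicator {ι : Type*} [Fintype ι] (x : ι → ℝ) (hx : ∀ i, x i = 0 ∨ x i = 1)
    (hne : ∃ i, x i = 1) :
    (Fintype.card ι : ℝ) ≤ ∑ i, x i + (1 / 2) * ∑ i, ∑ j, (x i - x j) ^ 2 := by
  have hsq : ∀ i, x i ^ 2 = x i := fun i => by rcases hx i with h | h <;> simp [h]
  have h01 : ∀ i, 0 ≤ x i ∧ x i ≤ 1 := fun i => by rcases hx i with h | h <;> simp [h]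
  simp only [sub_sq, hsq, Finset.sum_add_distrib, Finset.sum_sub_distrib, Finset.sum_const,
    Finset.card_univ, nsmul_eq_mul, mul_assoc, ← Finset.mul_sum, ← Finset.sum_mul]
  set S : ℝ := ∑ i, x i
  have h1 : 1 ≤ S := by
    obtain ⟨i, hi⟩ := hne
    rw [← hi]
    exact Finset.single_le_sum (fun j _ => (h01 j).1) (Finset.mem_univ i)
  have h2 : S ≤ Fintype.card ι := by
    refine (Finset.sum_le_sum fun i _ => (h01 i).2).trans ?_
    simp
  nlinarith [mul_nonneg (sub_nonneg.mpr h1) (sub_nonneg.mpr h2)]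

theorem sum_hom_apply {B : Type*} [CommGroup B] [Finite B] [Fintype (B →* ℂˣ)] [DecidableEq B]
    (x : B) : ∑ φ : B →* ℂˣ, ((φ x : ℂˣ) : ℂ) = if x = 1 then (Nat.card B : ℂ) else 0 := by
  split_ifs with h
  · subst h
    simp only [map_one, Units.val_one, Finset.sum_const, Finset.card_univ, nsmul_eq_mul, mul_one]
    rw [← Nat.card_eq_fintype_card, CommGroup.card_monoidHom_of_hasEnoughRootsOfUnity]
  · obtain ⟨φ₀, h0⟩ := CommGroup.exists_apply_ne_one_of_hasEnoughRootsOfUnity B ℂ h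
    have e : ((φ₀ x : ℂˣ) : ℂ) * ∑ φ : B →* ℂˣ, ((φ x : ℂˣ) : ℂ) = ∑ φ : B →* ℂˣ, ((φ x : ℂˣ) : ℂ) := by
      rw [Finset.mul_sum]
      exact Fintype.sum_equiv (Equiv.mulLeft φ₀) _ _ fun φ => by simp
    by_contra hs
    exact h0 (Units.ext ((mul_eq_right₀ hs).mp e))

section Step

variable [Fintype A] (L K : Subgroup A)

/-- Summing a function over the translates by the elements of `L`. -/
theorem sum_translates [Fintype L] (δ : A → ℝ) (hδ : ∀ a, ∀ l ∈ L, δ (a * l) = δ a) (F : A → ℝ) :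
    ∑ a, δ a * ∑ l : L, F (a * l) = (Fintype.card L : ℝ) * ∑ a, δ a * F a := by
  simp only [Finset.mul_sum]
  rw [Finset.sum_comm, Finset.sum_congr rfl fun a _ => rfl]
  refine (Finset.sum_congr rfl fun l _ => ?_).trans (b := ∑ _l : L, ∑ a, δ a * F a) ?_
  · refine Fintype.sum_equiv (Equiv.mulRight (l : A)) _ _ fun a => ?_
    simp [hδ a l l.2]
  · simp [Finset.mul_sum]

/-- Pair sums over `L` with the two entries congruent modulo `K`. -/
theorem sum_pairs [Fintype L] [DecidablePred (· ∈ K)] (v : L → ℂ)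
    (hv : ∀ l m : L, (m : A) ∈ K → v (l * m) = v l) :
    ∑ l : L, ∑ l' : L, (if (l : A) * (l' : A)⁻¹ ∈ K then v l * conj (v l') else 0) =
      (Nat.card ↥(L ⊓ K) : ℂ) * ∑ l : L, (Complex.normSq (v l) : ℂ) := by
  rw [Finset.mul_sum]
  refine Finset.sum_congr rfl fun l _ => ?_
  refine (Equiv.sum_comp (Equiv.mulLeft l) _).symm.trans ?_
  simp only [Equiv.coe_mulLeft, Subgroup.coe_mul, mul_inv_rev]
  have e : ∀ m : L, (if (l : A) * ((m : A)⁻¹ * (l : A)⁻¹) ∈ K then v l * conj (v (l * m)) else 0) =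
      if (m : A) ∈ K then (Complex.normSq (v l) : ℂ) else 0 := fun m => by
    have : (l : A) * ((m : A)⁻¹ * (l : A)⁻¹) = (m : A)⁻¹ := by
      rw [mul_comm (m : A)⁻¹, mul_inv_cancel_left]
    rw [this]
    by_cases hm : (m : A) ∈ K
    · rw [if_pos (inv_mem hm), if_pos hm, hv l m hm, Complex.mul_conj]
    · rw [if_neg (fun h => hm (inv_mem_iff.mp h)), if_neg hm]
  rw [Finset.sum_congr rfl fun m _ => e m, Finset.sum_ite, Finset.sum_const_zero, add_zero,
    Finset.sum_const, nsmul_eq_mul]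
  congr 1
  rw [← Fintype.card_subtype]
  have : Fintype ↥(L ⊓ K) := Fintype.ofFinite _
  rw [Nat.card_eq_fintype_card]
  exact_mod_cast Fintype.card_congr
    { toFun := fun m : {m : L // (m : A) ∈ K} => (⟨(m.1 : A), m.1.2, m.2⟩ : ↥(L ⊓ K))
      invFun := fun m => ⟨⟨(m : A), m.2.1⟩, m.2.2⟩
      left_inv := fun m => rfl
      right_inv := fun m => rfl }

theorem Good.step (hn : Nat.card A ∣ n) {δ δ' : A → ℝ} (h : Good n L δ)
    (hδ : ∀ a, ∀ l ∈ L, δ (a * l) = δ a) (hδ0 : ∀ a, 0 ≤ δ a) (q : ℝ)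
    (hq : (K.index : ℝ) ≤ q - 1) (hK : ∀ a ∈ K, δ a ≤ δ' a) (hnK : ∀ a, a ∉ K → q * δ a ≤ δ' a) :
    Good n (L ⊓ K) δ' := by
  classical
  intro f hf hint hne
  obtain ⟨a₀, ha₀⟩ := hne
  have : Fintype L := Fintype.ofFinite _
  have : Finite ((A ⧸ K) →* ℂˣ) := Finite.of_equiv _
    (CommGroup.monoidHom_mulEquiv_of_hasEnoughRootsOfUnity (A ⧸ K) ℂ).some.toEquiv.symm
  have : Fintype ((A ⧸ K) →* ℂˣ) := Fintype.ofFinite _
  set nK : ℝ := (Fintype.card ((A ⧸ K) →* ℂˣ) : ℝ) with hnKdef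
  have hnK' : Fintype.card ((A ⧸ K) →* ℂˣ) = K.index := by
    rw [← Nat.card_eq_fintype_card, CommGroup.card_monoidHom_of_hasEnoughRootsOfUnity]; rfl
  have hq' : nK ≤ q - 1 := by rw [hnKdef, hnK']; exact hq
  have hnK0 : 0 < nK := Nat.cast_pos.mpr Fintype.card_pos
  set E : ((A ⧸ K) →* ℂˣ) → A → rootField n := fun φ x =>
    ⟨((φ.comp (QuotientGroup.mk' K)) x : ℂ), mem_rootField_of_hom hn _ x⟩ with hE
  have hLc : (Fintype.card L : ℂ) ≠ 0 := Nat.cast_ne_zero.mpr Fintype.card_ne_zero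
  set g : ((A ⧸ K) →* ℂˣ) → A → rootField n := fun φ a =>
    ((Fintype.card L : rootField n))⁻¹ * ∑ l : L, f (a * l) * E φ (a * l) with hg
  have hgL : ∀ φ a, ∀ l ∈ L, g φ (a * l) = g φ a := by
    intro φ a l hl
    simp only [hg]
    congr 1
    exact Fintype.sum_equiv (Equiv.mulLeft (⟨l, hl⟩ : L)) _ _ fun m => by simp [mul_assoc]
  have hgint : ∀ φ, IntFourier (g φ) := by
    intro φ ψ
    by_cases hψ : ∀ l ∈ L, ψ l = 1
    · have := hint ((φ.comp (QuotientGroup.mk' K)) * ψ)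
      convert this using 2
      simp only [hg, hE]
      push_cast
      simp only [Finset.mul_sum, Finset.sum_mul]
      rw [Finset.sum_comm]
      refine (Finset.sum_congr rfl fun l _ => ?_).trans
        (b := ∑ _l : L, ∑ x, (Fintype.card L : ℂ)⁻¹ *
          ((f x : ℂ) * (((φ.comp (QuotientGroup.mk' K)) * ψ) x : ℂ))) ?_
      · refine Fintype.sum_equiv (Equiv.mulRight (l : A)) _ _ fun a => ?_
        simp [hψ l l.2]
        ring
      · rw [Finset.sum_const, Finset.card_univ, nsmul_eq_mul, ← Finset.mul_sum,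
          mul_inv_cancel_left₀ hLc]
    · obtain ⟨l, hl, hl1⟩ : ∃ l ∈ L, ψ l ≠ 1 := by simpa using hψ
      have hz : ∑ a, ((g φ a : ℂ) * (ψ a : ℂ)) = 0 := by
        by_contra hs
        refine hl1 (Units.ext ((mul_eq_right₀ hs).mp ?_))
        rw [Finset.mul_sum]
        refine Fintype.sum_equiv (Equiv.mulRight l) _ _ fun a => ?_
        rw [Equiv.coe_mulRight, hgL φ a l hl, map_mul, Units.val_mul]
        ring
      rw [hz, mul_zero]
      exact isIntegral_zero
  have hσg : ∀ (σ : rootField n →ₐ[ℚ] ℂ) φ a, σ (g φ a) =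
      (Fintype.card L : ℂ)⁻¹ * ∑ l : L, σ (f (a * l)) * σ (E φ (a * l)) := fun σ φ a => by
    simp only [hg, map_mul, map_inv₀, map_natCast, map_sum]
  have hE1 : ∀ φ x y, E φ (x * y) = E φ x * E φ y := fun φ x y =>
    Subtype.ext (by simp [hE])
  have hEsum : ∀ (σ : rootField n →ₐ[ℚ] ℂ) (x : A),
      ∑ φ, σ (E φ x) = if x ∈ K then (nK : ℂ) else 0 := fun σ x => by
    have e : ∑ φ, E φ x = if x ∈ K then ((K.index : ℕ) : rootField n) else 0 := by
      apply Subtype.ext
      rw [AddSubmonoidClass.coe_finsetSum]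
      simp only [hE, MonoidHom.coe_comp, QuotientGroup.coe_mk', Function.comp_apply]
      rw [sum_hom_apply, apply_ite Subtype.val]
      simp only [QuotientGroup.eq_one_iff]
      rfl
    rw [← map_sum, e, apply_ite σ, map_natCast, map_zero, hnKdef, hnK']
    push_cast
    rfl
  have hconj : ∀ (σ : rootField n →ₐ[ℚ] ℂ) φ x, conj (σ (E φ x)) = σ (E φ x⁻¹) := fun σ φ x => by
    have h1 : (σ (E φ x)) * σ (E φ x⁻¹) = 1 := by
      rw [← map_mul, ← hE1, mul_inv_cancel,
        show E φ 1 = 1 from Subtype.ext (by simp [hE]), map_one]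
    have hp : (σ (E φ x)) ^ Nat.card A = 1 := by
      rw [← map_pow, show E φ x ^ Nat.card A = 1 from Subtype.ext ?_, map_one]
      simp only [hE, SubmonoidClass.coe_pow, OneMemClass.coe_one]
      rw [← Units.val_pow_eq_pow_val, ← map_pow, pow_card_eq_one', map_one, Units.val_one]
    rw [← Complex.inv_eq_conj (Complex.norm_eq_one_of_pow_eq_one hp Nat.card_pos.ne')]
    exact inv_eq_of_mul_eq_one_right h1
  have hpars : ∀ (σ : rootField n →ₐ[ℚ] ℂ) a, ∑ φ, Complex.normSq (σ (g φ a)) =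
      nK * (Nat.card ↥(L ⊓ K) : ℝ) / (Fintype.card L : ℝ) ^ 2 *
        ∑ l : L, Complex.normSq (σ (f (a * l))) := by
    intro σ a
    apply Complex.ofReal_injective
    push_cast
    rw [div_mul_eq_mul_div, mul_assoc, ← sum_pairs L K (fun l : L => σ (f (a * l))) (fun l m hm => by
      simp only [Subgroup.coe_mul, ← mul_assoc]; rw [hf _ _ ⟨m.2, hm⟩])]
    simp only [← Complex.mul_conj, hσg, map_mul, map_sum, map_inv₀, Complex.conj_natCast, hconj,
      Finset.mul_sum, Finset.sum_mul, Finset.sum_div]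
    rw [Finset.sum_comm, Finset.sum_congr rfl fun l' _ => Finset.sum_comm, Finset.sum_comm]
    refine Finset.sum_congr rfl fun l _ => Finset.sum_congr rfl fun l' _ => ?_
    have e : a * (l : A) * (a * (l' : A))⁻¹ = (l : A) * (l' : A)⁻¹ := by
      rw [mul_inv_rev, mul_comm (l' : A)⁻¹ a⁻¹]; group
      rw [mul_comm a (l : A)]; group
    refine (Finset.sum_congr rfl fun φ _ => show _ = ((Fintype.card L : ℂ) ^ 2)⁻¹ *
      (σ (f (a * l)) * conj (σ (f (a * l')))) * σ (E φ ((l : A) * (l' : A)⁻¹)) from ?_).trans ?_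
    · rw [← e]; simp only [hE1, map_mul]; ring
    · rw [← Finset.mul_sum, hEsum]
      split_ifs <;> ring
  have hlin : ∀ (σ : rootField n →ₐ[ℚ] ℂ) a, Complex.normSq (∑ φ, σ (g φ a)) =
      nK ^ 2 * (Nat.card ↥(L ⊓ K) : ℝ) / (Fintype.card L : ℝ) ^ 2 *
        ∑ l : L, (if a * (l : A) ∈ K then Complex.normSq (σ (f (a * l))) else 0) := by
    intro σ a
    apply Complex.ofReal_injective
    rw [← Complex.mul_conj]
    simp only [hσg]
    rw [← Finset.mul_sum, Finset.sum_comm]
    simp only [← Finset.mul_sum, hEsum, mul_ite, mul_zero]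
    set v : L → ℂ := fun l => if a * (l : A) ∈ K then σ (f (a * l)) else 0 with hv
    have e : ∑ l : L, (if a * (l : A) ∈ K then σ (f (a * l)) * (nK : ℂ) else 0) =
        (∑ l : L, v l) * (nK : ℂ) := by
      rw [Finset.sum_mul]
      exact Finset.sum_congr rfl fun l _ => by simp only [hv, ite_mul, zero_mul]
    rw [e]
    have hvm : ∀ l m : L, (m : A) ∈ K → v (l * m) = v l := fun l m hm => by
      simp only [hv, Subgroup.coe_mul, ← mul_assoc, K.mul_mem_cancel_right hm, hf _ _ ⟨m.2, hm⟩]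
    have hp := sum_pairs L K v hvm
    have e2 : (∑ l : L, v l) * conj (∑ l : L, v l) =
        ∑ l : L, ∑ l' : L, (if (l : A) * (l' : A)⁻¹ ∈ K then v l * conj (v l') else 0) := by
      rw [map_sum, Finset.sum_mul_sum]
      refine Finset.sum_congr rfl fun l _ => Finset.sum_congr rfl fun l' _ => ?_
      split_ifs with hll
      · rfl
      · simp only [hv]
        split_ifs with h1 h2 <;> simp
        refine absurd ?_ hll
        have := K.mul_mem h1 (inv_mem h2)
        rwa [show a * (l : A) * (a * (l' : A))⁻¹ = (l : A) * (l' : A)⁻¹ by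
          rw [mul_inv_rev, mul_comm a (l : A), mul_comm (l' : A)⁻¹ a⁻¹]; group] at this
    rw [map_mul, map_mul, map_inv₀, Complex.conj_natCast, Complex.conj_ofReal]
    push_cast
    have e3 : ∀ l : L, (Complex.normSq (v l) : ℂ) =
        ((if a * (l : A) ∈ K then Complex.normSq (σ (f (a * l))) else 0 : ℝ) : ℂ) := fun l => by
      simp only [hv]; split_ifs <;> simp
    calc _ = (nK : ℂ) ^ 2 / (Fintype.card L : ℂ) ^ 2 * ((∑ l : L, v l) * conj (∑ l : L, v l)) := by
          ring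
      _ = _ := by
          rw [e2, hp, Finset.sum_congr rfl fun l _ => e3 l]
          ring
  -- the combination, per embedding
  have hup : ∀ σ : rootField n →ₐ[ℚ] ℂ,
      ∑ a, δ a * (nK * ∑ φ, Complex.normSq (σ (g φ a)) + nK * ((1 / 2) *
        ∑ φ, ∑ χ, Complex.normSq (σ (g φ a - g χ a)))) ≤
      nK ^ 2 * (Nat.card ↥(L ⊓ K) : ℝ) / (Fintype.card L : ℝ) *
        ∑ a, δ' a * Complex.normSq (σ (f a)) := by
    intro σ
    have hL0 : (Fintype.card L : ℝ) ≠ 0 := Nat.cast_ne_zero.mpr Fintype.card_ne_zero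
    set F : A → ℝ := fun x => Complex.normSq (σ (f x)) with hF
    set FK : A → ℝ := fun x => if x ∈ K then Complex.normSq (σ (f x)) else 0 with hFK
    set C : ℝ := nK ^ 2 * (Nat.card ↥(L ⊓ K) : ℝ) / (Fintype.card L : ℝ) ^ 2 with hC
    calc _ ≤ ∑ a, δ a * (q * (C * ∑ l : L, F (a * l)) - (q - 1) * (C * ∑ l : L, FK (a * l))) := by
          refine Finset.sum_le_sum fun a _ => mul_le_mul_of_nonneg_left ?_ (hδ0 a)
          have hd := sum_sum_normSq_sub (fun φ => σ (g φ a))
          simp only [map_sub]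
          have hd0 : 0 ≤ ∑ φ, ∑ χ, Complex.normSq (σ (g φ a) - σ (g χ a)) :=
            Finset.sum_nonneg fun _ _ => Finset.sum_nonneg fun _ _ => Complex.normSq_nonneg _
          have h1 : C * ∑ l : L, F (a * l) = nK * ∑ φ, Complex.normSq (σ (g φ a)) := by
            rw [hpars σ a]; simp only [hC, hF]; ring
          have h2 : C * ∑ l : L, FK (a * l) = Complex.normSq (∑ φ, σ (g φ a)) := by
            rw [hlin σ a]
          rw [h1, h2]
          nlinarith [mul_le_mul_of_nonneg_right hq' hd0]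
      _ = C * (q * ∑ a, δ a * ∑ l : L, F (a * l) - (q - 1) * ∑ a, δ a * ∑ l : L, FK (a * l)) := by
          simp only [mul_sub, Finset.mul_sum, ← Finset.sum_sub_distrib]
          exact Finset.sum_congr rfl fun a _ => Finset.sum_congr rfl fun l _ => by ring
      _ = C * (Fintype.card L : ℝ) * ∑ a, (q * (δ a * F a) - (q - 1) * (δ a * FK a)) := by
          rw [sum_translates L δ hδ, sum_translates L δ hδ, Finset.sum_sub_distrib,
            ← Finset.mul_sum, ← Finset.mul_sum]
          ring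
      _ ≤ C * (Fintype.card L : ℝ) * ∑ a, δ' a * F a := by
          refine mul_le_mul_of_nonneg_left (Finset.sum_le_sum fun a _ => ?_) (by positivity)
          have hF0 : 0 ≤ F a := Complex.normSq_nonneg _
          by_cases ha : a ∈ K
          · simp only [hFK, if_pos ha]
            nlinarith [mul_le_mul_of_nonneg_right (hK a ha) hF0]
          · simp only [hFK, if_neg ha]
            nlinarith [mul_le_mul_of_nonneg_right (hnK a ha) hF0]
      _ = _ := by
          rw [hC]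
          field_simp
          rfl
  have hsum := Finset.sum_le_sum fun σ (_ : σ ∈ Finset.univ) => hup σ
  -- lower bounds
  set N : ℝ := (Fintype.card (rootField n →ₐ[ℚ] ℂ) : ℝ) * (Fintype.card A : ℝ) ^ 2 with hN
  have hN0 : 0 ≤ N := by positivity
  let x : ((A ⧸ K) →* ℂˣ) → ℝ := fun φ => if ∃ a, g φ a ≠ 0 then 1 else 0
  have hlow1 : ∀ φ, x φ * N ≤ (Fintype.card L : ℝ) * ∑ a, δ a * qN (g φ a) := by
    intro φ
    simp only [x]
    split_ifs with h0
    · rw [one_mul, ← Nat.card_eq_fintype_card (α := L)]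
      exact h (g φ) (hgL φ) (hgint φ) h0
    · rw [zero_mul]
      exact mul_nonneg (Nat.cast_nonneg _) (Finset.sum_nonneg fun a _ => mul_nonneg (hδ0 a) (qN_nonneg _))
  have hlow2 : ∀ φ χ, (x φ - x χ) ^ 2 * N ≤
      (Fintype.card L : ℝ) * ∑ a, δ a * qN (g φ a - g χ a) := by
    intro φ χ
    have hr : 0 ≤ (Fintype.card L : ℝ) * ∑ a, δ a * qN (g φ a - g χ a) :=
      mul_nonneg (Nat.cast_nonneg _) (Finset.sum_nonneg fun a _ => mul_nonneg (hδ0 a) (qN_nonneg _))
    by_cases h0 : ∃ a, g φ a - g χ a ≠ 0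
    · have h1 : (x φ - x χ) ^ 2 ≤ 1 := by simp only [x]; split_ifs <;> norm_num
      refine (mul_le_mul_of_nonneg_right h1 hN0).trans ?_
      rw [one_mul, ← Nat.card_eq_fintype_card (α := L)]
      refine h (fun a => g φ a - g χ a) (fun a l hl => by simp only [hgL φ a l hl, hgL χ a l hl])
        (fun ψ => ?_) h0
      push_cast
      simp only [sub_mul, Finset.sum_sub_distrib, mul_sub]
      exact (hgint φ ψ).sub (hgint χ ψ)
    · simp only [not_exists, not_not, sub_eq_zero] at h0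
      have : x φ = x χ := by simp only [x, h0]
      rw [this, sub_self]
      simpa using hr
  have hx1 : ∃ φ, x φ = 1 := by
    by_contra hno
    have hz : ∀ φ a, g φ a = 0 := fun φ a => by
      by_contra h0
      exact hno ⟨φ, if_pos ⟨a, h0⟩⟩
    obtain ⟨σ⟩ : Nonempty (rootField n →ₐ[ℚ] ℂ) := ⟨(rootField n).val⟩
    have := hpars σ a₀
    simp only [hz, map_zero, Finset.sum_const_zero] at this
    have hpos : 0 < ∑ l : L, Complex.normSq (σ (f (a₀ * l))) := by
      refine Finset.sum_pos' (fun _ _ => Complex.normSq_nonneg _) ⟨1, Finset.mem_univ _, ?_⟩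
      simpa [Complex.normSq_pos] using ha₀
    have : (0 : ℝ) < 0 := by
      nth_rewrite 2 [this]
      exact mul_pos (div_pos (mul_pos hnK0 (Nat.cast_pos.mpr Nat.card_pos))
        (pow_pos (Nat.cast_pos.mpr Fintype.card_pos) 2)) hpos
    exact lt_irrefl _ this
  have hind := card_le_indicator x (fun φ => by simp only [x]; split_ifs <;> simp) hx1
  have htot : nK * N ≤ (Fintype.card L : ℝ) *
      ∑ a, δ a * (∑ φ, qN (g φ a) + (1 / 2) * ∑ φ, ∑ χ, qN (g φ a - g χ a)) := by
    refine (mul_le_mul_of_nonneg_right hind hN0).trans ?_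
    rw [add_mul, mul_assoc, Finset.sum_mul, Finset.sum_mul, Finset.sum_congr rfl fun φ _ =>
      Finset.sum_mul _ _ _]
    refine (add_le_add (Finset.sum_le_sum fun φ _ => hlow1 φ) (mul_le_mul_of_nonneg_left
      (Finset.sum_le_sum fun φ _ => Finset.sum_le_sum fun χ _ => hlow2 φ χ) (by norm_num))).trans
      (le_of_eq ?_)
    simp only [mul_add, Finset.sum_add_distrib, Finset.mul_sum]
    congr 1
    · rw [Finset.sum_comm]
    · rw [Finset.sum_comm (γ := A), Finset.sum_congr rfl fun φ _ => Finset.sum_comm (γ := A)]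
      exact Finset.sum_congr rfl fun _ _ => Finset.sum_congr rfl fun _ _ =>
        Finset.sum_congr rfl fun _ _ => by ring
  have hswap : ∑ σ : rootField n →ₐ[ℚ] ℂ, ∑ a, δ a * (nK * ∑ φ, Complex.normSq (σ (g φ a)) +
      nK * ((1 / 2) * ∑ φ, ∑ χ, Complex.normSq (σ (g φ a - g χ a)))) =
      nK * ∑ a, δ a * (∑ φ, qN (g φ a) + (1 / 2) * ∑ φ, ∑ χ, qN (g φ a - g χ a)) := by
    rw [Finset.sum_comm, Finset.mul_sum]
    refine Finset.sum_congr rfl fun a _ => ?_
    simp only [qN]
    rw [← Finset.mul_sum, Finset.sum_add_distrib, ← Finset.mul_sum, ← Finset.mul_sum,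
      ← Finset.mul_sum, Finset.sum_comm, Finset.sum_comm (γ := rootField n →ₐ[ℚ] ℂ)
        (f := fun σ φ => ∑ χ, Complex.normSq (σ (g φ a - g χ a))),
      Finset.sum_congr rfl fun φ _ => Finset.sum_comm]
    ring
  rw [hswap, ← Finset.mul_sum] at hsum
  have hL : (0 : ℝ) < Fintype.card L := Nat.cast_pos.mpr Fintype.card_pos
  have hsig : ∑ σ : rootField n →ₐ[ℚ] ℂ, ∑ a, δ' a * Complex.normSq (σ (f a)) =
      ∑ a, δ' a * qN (f a) := by
    rw [Finset.sum_comm]
    exact Finset.sum_congr rfl fun a _ => by rw [qN, Finset.mul_sum]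
  rw [hsig, div_mul_eq_mul_div, le_div_iff₀ hL] at hsum
  have : nK ^ 2 * N ≤ nK ^ 2 * ((Nat.card ↥(L ⊓ K) : ℝ) * ∑ a, δ' a * qN (f a)) := by
    nlinarith [mul_le_mul_of_nonneg_left htot hnK0.le]
  exact le_of_mul_le_mul_left this (by positivity)

end Step

end CfsgLib.Blocks.KGV
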