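/-
The lower bound for an abelian group acting coprimely and faithfully on an elementary abelian group.
-/
import Cfsg.Agent.Lib.Blocks.KGV.Form

namespace CfsgLib.Blocks.KGV

variable {X : Type*} [Group X] [Finite X]

/-- The subgroup `U` is normalised by `A`. -/
def Inv' (A U : Subgroup X) : Prop := ∀ a ∈ A, ∀ u ∈ U, a * u * a⁻¹ ∈ U

/-- The elements of `A` fixing `U` pointwise. -/
def fixer (A U : Subgroup X) : Subgroup A := (Subgroup.centralizer (U : Set X)).subgroupOf A

theorem mem_fixer {A U : Subgroup X} {a : A} : a ∈ fixer A U ↔ ∀ u ∈ U, (a : X) * u = u * a := by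
  rw [fixer, Subgroup.mem_subgroupOf, Subgroup.mem_centralizer_iff]
  exact ⟨fun h u hu => (h u hu).symm, fun h u hu => (h u hu).symm⟩

/-- The index of the fixed points of `a` in `U`. -/
noncomputable def fixIndex (U : Subgroup X) (a : X) : ℝ :=
  (Nat.card U : ℝ) / (Nat.card ↥(U ⊓ Subgroup.centralizer ({a} : Set X)) : ℝ)

theorem fixIndex_nonneg (U : Subgroup X) (a : X) : 0 ≤ fixIndex U a := by
  unfold fixIndex; positivity

theorem mem_fix_iff {U : Subgroup X} {a u : X} :
    u ∈ U ⊓ Subgroup.centralizer ({a} : Set X) ↔ u ∈ U ∧ u * a = a * u := by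
  rw [Subgroup.mem_inf, Subgroup.mem_centralizer_singleton_iff]

theorem fix_congr {A U : Subgroup X} (a l : A) (hl : l ∈ fixer A U) :
    U ⊓ Subgroup.centralizer ({((a * l : A) : X)} : Set X) =
      U ⊓ Subgroup.centralizer ({(a : X)} : Set X) := by
  ext u
  simp only [mem_fix_iff, Subgroup.coe_mul, and_congr_right_iff]
  intro hu
  have h := mem_fixer.mp hl u hu
  constructor
  · intro he
    refine mul_right_cancel (b := (l : X)) ?_
    rw [mul_assoc, he, mul_assoc (a : X) u, ← h, mul_assoc]
  · intro he
    rw [← mul_assoc, he, mul_assoc, ← h, mul_assoc]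

open scoped IsMulCommutative in
theorem good_fixer {p : ℕ} [Fact p.Prime] (A V : Subgroup X) [IsMulCommutative A] [Fintype A]
    (hVc : ∀ u ∈ V, ∀ w ∈ V, u * w = w * u) (hVp : ∀ u ∈ V, u ^ p = 1)
    (hcop : (Nat.card A).Coprime p) {n : ℕ} [NeZero n] (hn : Nat.card A ∣ n) :
    ∀ (k : ℕ) (U : Subgroup X), Nat.card U = k → U ≤ V → Inv' A U →
      Good n (fixer A U) (fun a => fixIndex U (a : X)) := by
  intro k
  induction k using Nat.strong_induction_on with
  | _ k ih =>
    intro U hk hUV hUi
    by_cases hbot : U = ⊥
    · subst hbot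
      have e : fixer A (⊥ : Subgroup X) = ⊤ := by
        rw [eq_top_iff]
        intro a _
        rw [mem_fixer]
        intro u hu
        rw [Subgroup.mem_bot] at hu
        simp [hu]
      rw [e]
      refine good_top.mono fun a => le_of_eq ?_
      rw [fixIndex, bot_inf_eq]
      simp
    · classical
      have : Fintype (Subgroup X) := Fintype.ofFinite _
      obtain ⟨W, hWmem, hWmax⟩ := Finset.exists_max_image
        (Finset.univ.filter fun W : Subgroup X => W < U ∧ Inv' A W) (fun W => Nat.card W)
        ⟨⊥, by
          refine Finset.mem_filter.mpr ⟨Finset.mem_univ _, bot_lt_iff_ne_bot.mpr hbot, ?_⟩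
          intro a _ u hu
          rw [Subgroup.mem_bot] at hu ⊢
          simp [hu]⟩
      rw [Finset.mem_filter] at hWmem
      obtain ⟨-, hWU, hWi⟩ := hWmem
      have hWV : W ≤ V := hWU.le.trans hUV
      have hlt : Nat.card W < k := by
        rw [← hk]
        exact lt_of_le_of_ne (Subgroup.card_le_of_le hWU.le) fun e =>
          hWU.ne (Subgroup.eq_of_le_of_card_ge hWU.le e.ge)
      have hG := ih _ hlt W rfl hWV hWi
      -- the elements acting trivially on the top layer
      let K : Subgroup A :=
        { carrier := {a | ∀ u ∈ U, (a : X) * u * (a : X)⁻¹ * u⁻¹ ∈ W}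
          one_mem' := fun u hu => by simp
          mul_mem' := fun {a b} ha hb u hu => by
            have h1 := ha _ (hUi b b.2 u hu)
            have h2 := hb u hu
            have := W.mul_mem h1 h2
            simpa [Subgroup.coe_mul, mul_assoc] using this
          inv_mem' := fun {a} ha u hu => by
            have hu' : (a : X)⁻¹ * u * (a : X) ∈ U := by
              simpa using hUi (a : X)⁻¹ (inv_mem a.2) u hu
            have := W.inv_mem (ha _ hu')
            simpa [mul_assoc] using this }
      have hKmem : ∀ a : A, a ∈ K ↔ ∀ u ∈ U, (a : X) * u * (a : X)⁻¹ * u⁻¹ ∈ W := fun a => Iff.rfl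
      -- outside `K` only `W` maps into `W`
      have hfree : ∀ a : A, a ∉ K → ∀ u ∈ U, (a : X) * u * (a : X)⁻¹ * u⁻¹ ∈ W → u ∈ W := by
        intro a ha
        let C : Subgroup X :=
          { carrier := {u | u ∈ U ∧ (a : X) * u * (a : X)⁻¹ * u⁻¹ ∈ W}
            one_mem' := ⟨U.one_mem, by simp⟩
            mul_mem' := fun {u w} hu hw => by
              refine ⟨U.mul_mem hu.1 hw.1, ?_⟩
              have e : (a : X) * (u * w) * (a : X)⁻¹ * (u * w)⁻¹ =
                  ((a : X) * u * (a : X)⁻¹ * u⁻¹) * ((a : X) * w * (a : X)⁻¹ * w⁻¹) := by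
                have hc := hVc u⁻¹ (V.inv_mem (hUV hu.1)) ((a : X) * w * (a : X)⁻¹ * w⁻¹) (hWV hw.2)
                rw [mul_assoc ((a : X) * u * (a : X)⁻¹) u⁻¹, hc]
                group
              rw [e]
              exact W.mul_mem hu.2 hw.2
            inv_mem' := fun {u} hu => by
              refine ⟨U.inv_mem hu.1, ?_⟩
              have hc := hVc ((a : X) * u * (a : X)⁻¹)⁻¹ (V.inv_mem (hUV (hUi a a.2 u hu.1))) u
                (hUV hu.1)
              have e : (a : X) * u⁻¹ * (a : X)⁻¹ * (u⁻¹)⁻¹ =
                  ((a : X) * u * (a : X)⁻¹ * u⁻¹)⁻¹ := by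
                rw [mul_inv_rev ((a : X) * u * (a : X)⁻¹) u⁻¹, inv_inv, ← hc]
                group
              rw [e]
              exact W.inv_mem hu.2 }
        have hWC : W ≤ C := fun u hu => ⟨hWU.le hu, W.mul_mem (hWi a a.2 u hu) (W.inv_mem hu)⟩
        have hCU : C ≤ U := fun u hu => hu.1
        have hCi : Inv' A C := by
          intro b hb u hu
          refine ⟨hUi b hb u hu.1, ?_⟩
          have hab : (a : X) * b = b * (a : X) := by
            have := mul_comm a ⟨b, hb⟩
            simpa [Subtype.ext_iff] using this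
          have e : (a : X) * (b * u * b⁻¹) * (a : X)⁻¹ * (b * u * b⁻¹)⁻¹ =
              b * ((a : X) * u * (a : X)⁻¹ * u⁻¹) * b⁻¹ := by
            have hab' : b⁻¹ * (a : X)⁻¹ = (a : X)⁻¹ * b⁻¹ := by
              rw [← mul_inv_rev, ← mul_inv_rev, hab]
            calc _ = ((a : X) * b) * u * (b⁻¹ * (a : X)⁻¹) * b * u⁻¹ * b⁻¹ := by group
              _ = _ := by rw [hab, hab']; group
          rw [e]
          exact hWi b hb _ hu.2
        intro u hu hc
        by_contra huW
        have hCne : C ≠ U := fun e => ha fun w hw => by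
          rw [← e] at hw
          exact hw.2
        have := hWmax C (Finset.mem_filter.mpr ⟨Finset.mem_univ _, lt_of_le_of_ne hCU hCne, hCi⟩)
        exact huW ((Subgroup.eq_of_le_of_card_ge hWC this) ▸ (⟨hu, hc⟩ : u ∈ C))
      have hfix : fixer A U = fixer A W ⊓ K := by
        apply le_antisymm
        · intro a ha
          refine ⟨mem_fixer.mpr fun u hu => mem_fixer.mp ha u (hWU.le hu), fun u hu => ?_⟩
          rw [mem_fixer.mp ha u hu]
          simp
        · rintro a ⟨haW, haK⟩
          rw [mem_fixer]
          intro u hu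
          obtain ⟨w, hw⟩ : ∃ w, w = (a : X) * u * (a : X)⁻¹ * u⁻¹ := ⟨_, rfl⟩
          have hwW : w ∈ W := hw ▸ haK u hu
          have hconj : (a : X) * u * (a : X)⁻¹ = w * u := by rw [hw]; group
          have hpow : ∀ i : ℕ, (a : X) ^ i * u * ((a : X) ^ i)⁻¹ = w ^ i * u := by
            intro i
            induction i with
            | zero => simp
            | succ i ihi =>
              have haw : Commute ((a : X) ^ i) w := (Commute.pow_left (mem_fixer.mp haW w hwW) i)
              calc _ = (a : X) ^ i * ((a : X) * u * (a : X)⁻¹) * ((a : X) ^ i)⁻¹ := by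
                    rw [pow_succ]; group
                _ = w * ((a : X) ^ i * u * ((a : X) ^ i)⁻¹) := by
                    rw [hconj, ← mul_assoc ((a : X) ^ i) w u, haw.eq]; group
                _ = _ := by rw [ihi, pow_succ', mul_assoc]
          have h := hpow (Nat.card A)
          have hac : (a : X) ^ Nat.card A = 1 := by
            rw [← SubmonoidClass.coe_pow, pow_card_eq_one', OneMemClass.coe_one]
          rw [hac, one_mul, inv_one, mul_one] at h
          have h1 : w ^ Nat.card A = 1 := mul_eq_right.mp h.symm
          have hw1 : w = 1 := by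
            have := orderOf_dvd_of_pow_eq_one h1
            have h2 := orderOf_dvd_of_pow_eq_one (hVp w (hWV hwW))
            exact orderOf_eq_one_iff.mp (Nat.eq_one_of_dvd_coprimes hcop this h2)
          rw [hw1, one_mul] at hconj
          exact mul_inv_eq_iff_eq_mul.mp hconj
      -- the size of the layer
      set Q : ℕ := W.relIndex U with hQ
      have hWQ : Nat.card W * Q = Nat.card U := by
        have := (W.subgroupOf U).card_mul_index
        rwa [Nat.card_congr (Subgroup.subgroupOfEquivOfLe hWU.le).toEquiv] at this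
      have hidx : (K.index : ℝ) ≤ (Q : ℝ) - 1 := by
        obtain ⟨u, huU, huW⟩ := SetLike.exists_of_lt hWU
        suffices h : K.index < Q by
          have h' : ((K.index : ℕ) : ℝ) + 1 ≤ (Q : ℝ) := by exact_mod_cast Nat.succ_le_of_lt h
          linarith
        rw [Subgroup.index, hQ, Subgroup.relIndex, Subgroup.index]
        have : Fintype (A ⧸ K) := Fintype.ofFinite _
        have : Fintype (U ⧸ W.subgroupOf U) := Fintype.ofFinite _
        rw [Nat.card_eq_fintype_card, Nat.card_eq_fintype_card]
        refine Fintype.card_lt_of_injective_of_notMem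
          (fun x : A ⧸ K => (((⟨(x.out : X) * u * (x.out : X)⁻¹, hUi _ x.out.2 u huU⟩ : U)) :
            U ⧸ W.subgroupOf U)) (fun x y hxy => ?_) (b := ((1 : U) : U ⧸ W.subgroupOf U)) ?_
        · rw [QuotientGroup.eq, Subgroup.mem_subgroupOf] at hxy
          simp only [Subgroup.coe_mul, InvMemClass.coe_inv] at hxy
          rw [← x.out_eq, ← y.out_eq]
          refine QuotientGroup.eq.mpr ?_
          by_contra hd
          apply huW
          have hd' : x.out⁻¹ * y.out ∉ K := hd
          refine hfree _ hd' u huU ?_
          have hu' : (x.out : X)⁻¹ * ((x.out : X) * u⁻¹ * (x.out : X)⁻¹ * ((y.out : X) * u * (y.out : X)⁻¹)) *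
              (x.out : X) ∈ W := by
            have := hWi (x.out : X)⁻¹ (inv_mem x.out.2) _ hxy
            simpa [mul_assoc] using this
          have hc := hVc u⁻¹ (V.inv_mem (hUV huU)) _ (hUV (hUi _ (x.out⁻¹ * y.out).2 u huU))
          rw [← hc]
          simpa [mul_assoc] using hu'
        · rintro ⟨x, hx⟩
          rw [QuotientGroup.eq, Subgroup.mem_subgroupOf] at hx
          simp only [mul_one, InvMemClass.coe_inv, inv_mem_iff] at hx
          apply huW
          have := hWi (x.out : X)⁻¹ (inv_mem x.out.2) _ hx
          simpa [mul_assoc] using this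
      have hQ0 : (0 : ℝ) < Q := by
        have : 0 < Q := Nat.pos_of_ne_zero fun h0 => by
          rw [h0, mul_zero] at hWQ
          exact Nat.card_pos.ne hWQ
        exact_mod_cast this
      have hU : (Nat.card U : ℝ) = (Nat.card W : ℝ) * Q := by exact_mod_cast hWQ.symm
      rw [hfix]
      refine Good.step (fixer A W) K hn hG (fun a l hl => ?_) (fun a => fixIndex_nonneg _ _) (Q : ℝ)
        hidx (fun a _ => ?_) (fun a ha => ?_)
      · simp only [fixIndex]
        rw [fix_congr a l hl]
      · -- index of fixed points grows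
        simp only [fixIndex]
        set CW := W ⊓ Subgroup.centralizer ({(a : X)} : Set X)
        set CU := U ⊓ Subgroup.centralizer ({(a : X)} : Set X)
        have hle : CW ≤ CU := inf_le_inf_right _ hWU.le
        have h1 : CW.subgroupOf CU = W.subgroupOf CU := by
          ext x
          simp only [Subgroup.mem_subgroupOf, CW, Subgroup.mem_inf]
          exact ⟨fun h => h.1, fun h => ⟨h, x.2.2⟩⟩
        have h2 := (CW.subgroupOf CU).card_mul_index
        rw [Nat.card_congr (Subgroup.subgroupOfEquivOfLe hle).toEquiv, h1] at h2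
        have h3 : W.relIndex CU ≤ Q := Subgroup.relIndex_le_of_le_right inf_le_left (by
          intro h0
          rw [Subgroup.relIndex] at h0
          exact Subgroup.index_ne_zero_of_finite h0)
        have h4 : (Nat.card CU : ℝ) ≤ (Nat.card CW : ℝ) * Q := by
          exact_mod_cast h2 ▸ Nat.mul_le_mul_left _ h3
        rw [div_le_div_iff₀ (Nat.cast_pos.mpr Nat.card_pos) (Nat.cast_pos.mpr Nat.card_pos), hU]
        calc (Nat.card W : ℝ) * Nat.card CU ≤ Nat.card W * (Nat.card CW * Q) :=
              mul_le_mul_of_nonneg_left h4 (Nat.cast_nonneg _)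
          _ = _ := by ring
      · simp only [fixIndex]
        have e : U ⊓ Subgroup.centralizer ({(a : X)} : Set X) =
            W ⊓ Subgroup.centralizer ({(a : X)} : Set X) := by
          refine le_antisymm (fun u hu => ⟨?_, hu.2⟩) (inf_le_inf_right _ hWU.le)
          obtain ⟨hu1, hu2⟩ := mem_fix_iff.mp hu
          refine hfree a ha u hu1 ?_
          rw [← hu2]
          simp
        rw [e, hU, mul_div_assoc']
        exact le_of_eq (by ring)

end CfsgLib.Blocks.KGV
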