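/-
The class number bound for a coprime semidirect product with an abelian point stabiliser.
-/
import Cfsg.Agent.Lib.Blocks.KGV.Chain
import Cfsg.Agent.Lib.CharTheory.Degree
import Cfsg.Agent.Lib.CharTheory.Irr
import Mathlib.Algebra.CharP.Lemmas
import Mathlib.GroupTheory.NoncommCoprod

namespace CfsgLib.Blocks.KGV

open Cfsg CfsgLib.CharTheory
open scoped ComplexConjugate

/-- Twisted averages of character values over an abelian group commuting with `v` are integral. -/
theorem isIntegral_twist {X : Type*} [Group X] [Finite X] (A : Subgroup X) [Fintype A]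
    (hA : ∀ a b : A, a * b = b * a) (v : X) (hva : ∀ a : A, v * (a : X) = a * v)
    {χ : X → ℂ} (hχ : IsCharacter X χ) (ψ : A →* ℂˣ) :
    IsIntegral ℤ ((Fintype.card A : ℂ)⁻¹ * ∑ a : A, (χ (v * (a : X)) * (ψ a : ℂ))) := by
  classical
  have hcomm : ∀ (z : Subgroup.zpowers v) (a : A),
      Commute ((Subgroup.zpowers v).subtype z) (A.subtype a) := by
    rintro ⟨z, hz⟩ a
    obtain ⟨i, rfl⟩ := Subgroup.mem_zpowers_iff.mp hz
    exact (show Commute v (a : X) from hva a).zpow_left i
  let f : Subgroup.zpowers v × A →* X :=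
    MonoidHom.noncommCoprod (Subgroup.zpowers v).subtype A.subtype hcomm
  have hc : ∀ x y : Subgroup.zpowers v × A, x * y = y * x := fun x y =>
    Prod.ext (Std.Commutative.comm (op := (· * ·)) x.1 y.1) (hA x.2 y.2)
  obtain ⟨l, hl, he⟩ := exists_list_irr (isCharacter_comp hχ f)
  have hval : ∀ a : A, χ (v * (a : X)) = (l.map fun ω => ω (⟨v, Subgroup.mem_zpowers v⟩, a)).sum := by
    intro a
    have h := congrFun he (⟨v, Subgroup.mem_zpowers v⟩, a)
    rw [Pi.list_sum_apply] at h
    rw [← h]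
    rfl
  simp only [hval]
  clear hval he
  induction l with
  | nil => simp [isIntegral_zero]
  | cons ω l ih =>
    simp only [List.map_cons, List.sum_cons, add_mul, Finset.sum_add_distrib, mul_add]
    refine IsIntegral.add ?_ (ih fun x hx => hl x (List.mem_cons_of_mem _ hx))
    have hω := hl ω List.mem_cons_self
    obtain ⟨φ, rfl⟩ := exists_hom_of_degree_one (isCharacter_of_irr hω) (degree_one_of_commutative hc hω)
    let τ : A →* ℂˣ := (φ.comp (MonoidHom.inr _ _)) * ψ
    have e : ∀ a : A, ((φ (⟨v, Subgroup.mem_zpowers v⟩, a) : ℂˣ) : ℂ) * (ψ a : ℂ) =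
        ((φ (⟨v, Subgroup.mem_zpowers v⟩, 1) : ℂˣ) : ℂ) * (τ a : ℂ) := fun a => by
      simp only [τ, MonoidHom.mul_apply, MonoidHom.comp_apply, MonoidHom.inr_apply, Units.val_mul]
      rw [← mul_assoc, ← Units.val_mul (φ _) (φ _), ← map_mul, Prod.mk_mul_mk, mul_one, one_mul]
    simp only [e, ← Finset.mul_sum]
    rw [← mul_assoc, mul_comm (Fintype.card A : ℂ)⁻¹, mul_assoc]
    refine IsIntegral.mul ?_ ?_
    · refine IsIntegral.of_pow (n := Nat.card (Subgroup.zpowers v × A)) Nat.card_pos ?_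
      rw [← Units.val_pow_eq_pow_val, ← map_pow, pow_card_eq_one', map_one, Units.val_one]
      exact isIntegral_one
    · by_cases hτ : τ = 1
      · rw [hτ]
        simp [inv_mul_cancel₀ (Nat.cast_ne_zero (R := ℂ).mpr Fintype.card_ne_zero), isIntegral_one]
      · obtain ⟨b, hb⟩ : ∃ b, τ b ≠ 1 := by
          by_contra hno
          exact hτ (MonoidHom.ext fun b => by simpa using not_exists.mp hno b)
        have hz : ∑ a : A, (τ a : ℂ) = 0 := by
          by_contra hs
          refine hb (Units.ext ((mul_eq_right₀ hs).mp ?_))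
          rw [Finset.mul_sum]
          exact Fintype.sum_equiv (Equiv.mulLeft b) _ _ fun a => by simp
        rw [hz, mul_zero]
        exact isIntegral_zero

/-- A character of degree prime to `p` does not vanish on elements of order dividing `p`. -/
theorem ne_zero_of_pow_prime {X : Type*} [Group X] [Finite X] {p : ℕ} [hp : Fact p.Prime] {v : X}
    (hv : v ^ p = 1) {χ : X → ℂ} (hχ : IsCharacter X χ) {d : ℕ} (hd : χ 1 = d) (hpd : ¬ p ∣ d) :
    χ v ≠ 0 := by
  intro h0
  obtain ⟨s, hs, hpow⟩ := exists_roots_pow hχ v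
  have hsum : ∀ t : Multiset ℂ, (∀ x ∈ t, IsIntegral ℤ x) →
      ∃ r : ℂ, IsIntegral ℤ r ∧ t.sum ^ p = (t.map (· ^ p)).sum + (p : ℂ) * r := by
    intro t
    induction t using Multiset.induction with
    | empty => exact fun _ => ⟨0, isIntegral_zero, by simp [hp.out.ne_zero]⟩
    | cons a t ih =>
      intro ht
      obtain ⟨r, hr, e⟩ := ih fun x hx => ht x (Multiset.mem_cons_of_mem hx)
      have ha := ht a (Multiset.mem_cons_self a t)
      have hts : IsIntegral ℤ t.sum := IsIntegral.multiset_sum fun x hx => ht x (Multiset.mem_cons_of_mem hx)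
      obtain ⟨q, hq⟩ := exists_add_pow_prime_eq hp.out (⟨a, ha⟩ : integralClosure ℤ ℂ) ⟨t.sum, hts⟩
      have hq' := congrArg Subtype.val hq
      push_cast at hq'
      refine ⟨r + a * t.sum * (q : ℂ), hr.add ((ha.mul hts).mul q.2), ?_⟩
      rw [Multiset.sum_cons, Multiset.map_cons, Multiset.sum_cons, hq', e]
      ring
  obtain ⟨r, hr, e⟩ := hsum s fun x hx => IsIntegral.of_pow Nat.card_pos (by rw [hs x hx]; exact isIntegral_one)
  have h1 := hpow 1
  simp only [pow_one, Multiset.map_id'] at h1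
  rw [← h1, h0, zero_pow hp.out.ne_zero, ← hpow p, hv, hd] at e
  have hr' : r = ((-(d : ℚ) / p : ℚ) : ℂ) := by
    have hp0 : (p : ℂ) ≠ 0 := Nat.cast_ne_zero.mpr hp.out.ne_zero
    push_cast
    rw [eq_div_iff hp0]
    linear_combination -e
  rw [hr', show ((-(d : ℚ) / p : ℚ) : ℂ) = algebraMap ℚ ℂ (-(d : ℚ) / p) from (eq_ratCast _ _).symm,
    isIntegral_algebraMap_iff (algebraMap ℚ ℂ).injective] at hr
  obtain ⟨m, hm⟩ := IsIntegrallyClosed.isIntegral_iff.mp hr
  apply hpd
  have hp0 : (p : ℚ) ≠ 0 := Nat.cast_ne_zero.mpr hp.out.ne_zero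
  rw [eq_intCast] at hm
  have hm2 : (d : ℚ) = (p : ℚ) * ((-m : ℤ) : ℚ) := by
    push_cast
    rw [hm]
    field_simp
  have hm3 : (d : ℤ) = (p : ℤ) * (-m) := by exact_mod_cast hm2
  exact Int.natCast_dvd_natCast.mp ⟨-m, hm3⟩

/-- `k(GV) ≤ |V|` when some vector has an abelian stabiliser. -/
theorem card_conjClasses_le_of_abelian {X : Type*} [Group X] [Finite X] (p : ℕ) [Fact p.Prime]
    (V : Subgroup X) [V.Normal] (hVexp : ∀ v ∈ V, v ^ p = 1) (hidx : ¬ p ∣ V.index)
    (hself : Subgroup.centralizer (V : Set X) = V) (G : Subgroup X)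
    (hGV : Subgroup.IsComplement' V G) (v : X) (hv : v ∈ V)
    (hab : ∀ a ∈ G ⊓ Subgroup.centralizer ({v} : Set X),
      ∀ b ∈ G ⊓ Subgroup.centralizer ({v} : Set X), a * b = b * a) :
    Nat.card (ConjClasses X) ≤ Nat.card V := by
  classical
  have := Fintype.ofFinite X
  set A := G ⊓ Subgroup.centralizer ({v} : Set X) with hA
  have : IsMulCommutative A := ⟨⟨fun a b => Subtype.ext (hab a a.2 b b.2)⟩⟩
  have : Fintype A := Fintype.ofFinite A
  have hVc : ∀ u ∈ V, ∀ w ∈ V, u * w = w * u := by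
    intro u hu w hw
    rw [← hself] at hu
    exact ((Subgroup.mem_centralizer_iff.mp hu) w hw).symm
  have hav : ∀ a : A, v * (a : X) = (a : X) * v := fun a =>
    (Subgroup.mem_centralizer_singleton_iff.mp a.2.2).symm
  have hGcard : Nat.card G = V.index := hGV.symm.index_eq_card.symm
  have hAG : Nat.card A ∣ V.index := hGcard ▸ Subgroup.card_dvd_of_le inf_le_left
  have hcop : (Nat.card A).Coprime p := by
    refine ((Fact.out : p.Prime).coprime_iff_not_dvd.mpr fun h => hidx (h.trans hAG)).symm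
  have hn : Nat.card A ∣ Nat.card X := Subgroup.card_subgroup_dvd_card A
  have : NeZero (Nat.card X) := ⟨Nat.card_pos.ne'⟩
  have hgood := good_fixer (p := p) A V hVc hVexp hcop hn (Nat.card V) V rfl le_rfl
    (fun a _ u hu => ‹V.Normal›.conj_mem u hu a)
  have hfix : fixer A V = ⊥ := by
    rw [eq_bot_iff]
    intro a ha
    have h1 : (a : X) ∈ V := by
      rw [← hself, Subgroup.mem_centralizer_iff]
      exact fun u hu => (mem_fixer.mp ha u hu).symm
    rw [Subgroup.mem_bot]
    exact Subtype.ext (Subgroup.disjoint_def.mp hGV.disjoint h1 a.2.1)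
  rw [hfix] at hgood
  -- orders
  have hdegree : ∀ χ : IrrCharacter X, ∃ d : ℕ, (χ : X → ℂ) 1 = d ∧ ¬ p ∣ d := by
    rintro ⟨χ, m, ρ, hρ, rfl⟩
    refine ⟨_, ρ.char_one, fun h => hidx (h.trans (degree_dvd_index_of_abelian_normal ρ V hVc))⟩
  let z : IrrCharacter X → A → rootField (Nat.card X) := fun χ a =>
    ⟨(χ : X → ℂ) (v * (a : X)), char_mem_rootField (isCharacter_of_irr χ.2) _⟩
  set N : ℝ := (Fintype.card (rootField (Nat.card X) →ₐ[ℚ] ℂ) : ℝ) with hN
  have hlow : ∀ χ : IrrCharacter X, N * (Fintype.card A : ℝ) ^ 2 ≤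
      ∑ a : A, fixIndex V (a : X) * qN (z χ a) := by
    intro χ
    obtain ⟨d, hd, hpd⟩ := hdegree χ
    have := hgood (z χ) (fun a l hl => by rw [Subgroup.mem_bot] at hl; simp [hl])
      (fun ψ => isIntegral_twist A (fun a b => Subtype.ext (hab a a.2 b b.2)) v hav
        (isCharacter_of_irr χ.2) ψ)
      ⟨1, fun h => ne_zero_of_pow_prime (hVexp v hv) (isCharacter_of_irr χ.2) hd hpd
        (by simpa [z] using congrArg Subtype.val h)⟩
    rw [Subgroup.card_bot, Nat.cast_one, one_mul] at this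
    exact this
  -- centralisers
  have hcent : ∀ a : A, Nat.card (Subgroup.centralizer ({v * (a : X)} : Set X)) ≤
      Nat.card ↥(V ⊓ Subgroup.centralizer ({(a : X)} : Set X)) * Nat.card A := by
    intro a
    have hsplit : ∀ y ∈ Subgroup.centralizer ({v * (a : X)} : Set X), y * v = v * y ∧ y * a = a * y := by
      intro y hy
      rw [Subgroup.mem_centralizer_singleton_iff] at hy
      have hy' : Commute y (v * (a : X)) := hy
      have hco : (Nat.card A).Coprime p := hcop
      obtain ⟨i, hi⟩ : ∃ i : ℤ, (v * (a : X)) ^ i = v := by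
        obtain ⟨x, w, hxw⟩ := Int.isCoprime_iff_nat_coprime.mpr (show (Int.natAbs (Nat.card A)).Coprime
          (Int.natAbs p) by simpa using hco)
        refine ⟨x * Nat.card A, ?_⟩
        have h1 : (a : X) ^ (Nat.card A : ℤ) = 1 := by
          rw [zpow_natCast, ← SubmonoidClass.coe_pow, pow_card_eq_one', OneMemClass.coe_one]
        have h2 : v ^ (p : ℤ) = 1 := by rw [zpow_natCast, hVexp v hv]
        rw [(show Commute v (a : X) from hav a).mul_zpow]
        rw [show (a : X) ^ (x * (Nat.card A : ℤ)) = 1 by rw [mul_comm, zpow_mul, h1, one_zpow], mul_one]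
        rw [eq_sub_of_add_eq hxw, sub_eq_add_neg, zpow_add, zpow_one, mul_comm w, ← mul_neg, zpow_mul,
          h2, one_zpow, mul_one]
      have hyv : Commute y v := hi ▸ hy'.zpow_right i
      refine ⟨hyv, ?_⟩
      have := (hyv.inv_right).mul_right hy'
      rw [inv_mul_cancel_left] at this
      exact this.eq
    have hdec : ∀ y : X, ∃ w : V, ∃ g : G, y = (w : X) * g := fun y => by
      obtain ⟨⟨w, g⟩, h⟩ := hGV.2 y
      exact ⟨w, g, h.symm⟩
    choose w g hwg using hdec
    have hmem : ∀ y ∈ Subgroup.centralizer ({v * (a : X)} : Set X),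
        (g y : X) ∈ A ∧ (w y : X) ∈ V ⊓ Subgroup.centralizer ({(a : X)} : Set X) := by
      intro y hy
      obtain ⟨h1, h2⟩ := hsplit y hy
      have hgv : (g y : X) * v = v * g y := by
        have hw : (w y : X) * v = v * w y := hVc _ (w y).2 _ hv
        rw [hwg y, mul_assoc, ← mul_assoc v, ← hw, mul_assoc] at h1
        exact mul_left_cancel h1
      have hgA : (g y : X) ∈ A := ⟨(g y).2, Subgroup.mem_centralizer_singleton_iff.mpr hgv⟩
      refine ⟨hgA, mem_fix_iff.mpr ⟨(w y).2, ?_⟩⟩
      have hga : (g y : X) * a = a * g y := hab _ hgA _ a.2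
      rw [hwg y, mul_assoc, hga, ← mul_assoc, ← mul_assoc] at h2
      exact mul_right_cancel h2
    rw [← Nat.card_prod]
    refine Nat.card_le_card_of_injective
      (fun y => (⟨_, (hmem y y.2).2⟩, ⟨_, (hmem y y.2).1⟩)) fun y y' h => ?_
    simp only [Prod.mk.injEq, Subtype.mk.injEq] at h
    apply Subtype.ext
    rw [hwg (y : X), hwg (y' : X), h.1, h.2]
  have hup : ∀ σ : rootField (Nat.card X) →ₐ[ℚ] ℂ,
      ∑ χ : IrrCharacter X, ∑ a : A, fixIndex V (a : X) * Complex.normSq (σ (z χ a)) ≤
        (Nat.card V : ℝ) * (Fintype.card A : ℝ) ^ 2 := by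
    intro σ
    obtain ⟨m, hm, hσ⟩ := exists_pow_of_galois_hom Nat.card_pos.ne' σ
    rw [Finset.sum_comm]
    have hone : ∀ a : A, ∑ χ : IrrCharacter X, fixIndex V (a : X) * Complex.normSq (σ (z χ a)) ≤
        (Nat.card V : ℝ) * (Fintype.card A : ℝ) := by
      intro a
      have hz : ∀ χ : IrrCharacter X, σ (z χ a) = (χ : X → ℂ) ((v * (a : X)) ^ m) := fun χ =>
        galois_apply_char (isCharacter_of_irr χ.2) _ σ hσ
      have hs : ∑ χ : IrrCharacter X, Complex.normSq (σ (z χ a)) =
          (Nat.card (Subgroup.centralizer ({(v * (a : X)) ^ m} : Set X)) : ℝ) := by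
        apply Complex.ofReal_injective
        push_cast
        simp only [← Complex.mul_conj, hz]
        rw [sum_irr_mul_conj, if_pos (IsConj.refl _)]
      have hc : Subgroup.centralizer ({(v * (a : X)) ^ m} : Set X) =
          Subgroup.centralizer ({v * (a : X)} : Set X) := by
        ext y
        simp only [Subgroup.mem_centralizer_singleton_iff]
        constructor
        · intro hy
          obtain ⟨i, hi⟩ := exists_pow_eq_self_of_coprime (n := m) (x := v * (a : X))
            (hm.coprime_dvd_right (orderOf_dvd_natCard _))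
          rw [← hi]
          exact (show Commute y ((v * (a : X)) ^ m) from hy).pow_right i
        · intro hy
          exact (show Commute y (v * (a : X)) from hy).pow_right m
      rw [← Finset.mul_sum, hs, hc, fixIndex, ← Nat.card_eq_fintype_card]
      rw [div_mul_eq_mul_div, div_le_iff₀ (Nat.cast_pos.mpr Nat.card_pos), mul_assoc]
      refine mul_le_mul_of_nonneg_left ?_ (Nat.cast_nonneg _)
      rw [mul_comm]
      exact_mod_cast hcent a
    refine (Finset.sum_le_sum fun a _ => hone a).trans (le_of_eq ?_)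
    rw [Finset.sum_const, Finset.card_univ, nsmul_eq_mul]
    ring
  have hA0 : (0 : ℝ) < N * (Fintype.card A : ℝ) ^ 2 :=
    mul_pos (Nat.cast_pos.mpr (Fintype.card_pos_iff.mpr ⟨(rootField (Nat.card X)).val⟩))
      (pow_pos (Nat.cast_pos.mpr Fintype.card_pos) 2)
  have hk : (Nat.card (ConjClasses X) : ℝ) * (N * (Fintype.card A : ℝ) ^ 2) ≤
      (Nat.card V : ℝ) * (N * (Fintype.card A : ℝ) ^ 2) := by
    calc _ = ∑ _χ : IrrCharacter X, N * (Fintype.card A : ℝ) ^ 2 := by
          rw [Finset.sum_const, Finset.card_univ, nsmul_eq_mul, ← card_irr_eq_card_conjClasses,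
            Nat.card_eq_fintype_card]
      _ ≤ ∑ χ : IrrCharacter X, ∑ a : A, fixIndex V (a : X) * qN (z χ a) :=
          Finset.sum_le_sum fun χ _ => hlow χ
      _ = ∑ σ : rootField (Nat.card X) →ₐ[ℚ] ℂ,
            ∑ χ : IrrCharacter X, ∑ a : A, fixIndex V (a : X) * Complex.normSq (σ (z χ a)) := by
          simp only [qN, Finset.mul_sum]
          rw [Finset.sum_congr rfl fun χ _ => Finset.sum_comm]
          exact Finset.sum_comm
      _ ≤ ∑ _σ : rootField (Nat.card X) →ₐ[ℚ] ℂ, (Nat.card V : ℝ) * (Fintype.card A : ℝ) ^ 2 :=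
          Finset.sum_le_sum fun σ _ => hup σ
      _ = _ := by
          rw [Finset.sum_const, Finset.card_univ, nsmul_eq_mul, hN]
          ring
  exact_mod_cast le_of_mul_le_mul_right hk hA0

end CfsgLib.Blocks.KGV
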