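/-
Conjugation quotients of `p`-units in the field of `p`-th roots of unity.
-/
import Cfsg.Agent.Lib.CharTheory.GaloisBound
import Mathlib.NumberTheory.NumberField.Cyclotomic.Ideal

namespace CfsgLib.Blocks.KGV

open CfsgLib.CharTheory NumberField
open scoped IntermediateField ComplexConjugate

/-- An element of `ℚ(ζ_p)` of norm a power of `p` differs from its conjugate by an algebraic
integer factor. -/
theorem isIntegral_conj_div {p : ℕ} [hp : Fact p.Prime] {y : ℂ} (hy : y ∈ rootField p)
    (hi : IsIntegral ℤ y) {m : ℕ} (h : y * conj y = (p : ℂ) ^ m) : IsIntegral ℤ (conj y / y) := by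
  have hp0 : p ≠ 0 := hp.out.ne_zero
  haveI := NeZero.mk hp0
  let g : rootField p := ⟨_, IntermediateField.mem_adjoin_simple_self ℚ _⟩
  have hg : IsPrimitiveRoot g p :=
    IsPrimitiveRoot.of_map_of_injective (f := (rootField p).val) (isPrimitiveRoot_exp' hp0)
      (rootField p).val.injective
  haveI : IsCyclotomicExtension {p} ℚ (rootField p) := by
    refine ⟨fun {n} hn _ => ?_, fun x => ?_⟩
    · rw [Set.mem_singleton_iff] at hn
      subst hn
      exact ⟨g, hg⟩
    · obtain ⟨x, hx⟩ := x
      induction hx using IntermediateField.adjoin_induction with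
      | mem z hz =>
        refine Algebra.subset_adjoin ⟨_, rfl, hp0, ?_⟩
        rw [Set.mem_singleton_iff] at hz
        subst hz
        exact hg.pow_eq_one
      | algebraMap r => exact Subalgebra.algebraMap_mem _ r
      | add a b ha hb iha ihb => exact Subalgebra.add_mem _ iha ihb
      | inv a ha iha =>
        exact Subalgebra.inv_mem_of_algebraic _ (x := ⟨_, iha⟩)
          (Algebra.IsAlgebraic.isAlgebraic _)
      | mul a b ha hb iha ihb => exact Subalgebra.mul_mem _ iha ihb
  haveI : NumberField (rootField p) := IsCyclotomicExtension.numberField {p} ℚ (rootField p)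
  have hint : ∀ x : rootField p, IsIntegral ℤ (x : ℂ) → IsIntegral ℤ x := fun x hx =>
    (isIntegral_algHom_iff (((rootField p).val).restrictScalars ℤ) Subtype.val_injective).1 hx
  obtain ⟨hc, -⟩ := conj_galois hp0 ((rootField p).val) hy
  let Y : 𝓞 (rootField p) := ⟨⟨y, hy⟩, hint _ hi⟩
  let Y' : 𝓞 (rootField p) := ⟨⟨conj y, hc⟩,
    hint _ (hi.map ((Complex.conjAe.toAlgHom).restrictScalars ℤ))⟩
  have hYY : Y * Y' = (p : 𝓞 (rootField p)) ^ m := by
    apply RingOfIntegers.ext
    apply Subtype.ext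
    show y * conj y = _
    rw [h]
    simp
  have hdvd : Y ∣ (hg.toInteger - 1) ^ ((p - 1) * m) := by
    refine (dvd_mul_right Y Y').trans (hYY ▸ ?_)
    rw [pow_mul]
    exact pow_dvd_pow_of_dvd
      (IsCyclotomicExtension.Rat.associated_zeta_sub_one_pow_prime p hg).symm.dvd m
  obtain ⟨i, -, hassoc⟩ := (dvd_prime_pow hg.zeta_sub_one_prime' _).mp hdvd
  obtain ⟨u, hu⟩ := hassoc.symm
  set ζ : ℂ := (g : ℂ) with hζ
  have hζp : ζ ^ p = 1 := (isPrimitiveRoot_exp' hp0).pow_eq_one
  have hconj : conj ζ = ζ⁻¹ :=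
    (Complex.inv_eq_conj (Complex.norm_eq_one_of_pow_eq_one hζp hp0)).symm
  set U : ℂ := (((u : 𝓞 (rootField p)) : rootField p) : ℂ) with hU
  set U' : ℂ := ((((u⁻¹ : (𝓞 (rootField p))ˣ) : 𝓞 (rootField p)) : rootField p) : ℂ) with hU'
  have hUU : U * U' = 1 := by
    rw [hU, hU', ← IntermediateField.coe_mul, ← map_mul, Units.mul_inv, map_one,
      IntermediateField.coe_one]
  have hy' : y = (ζ - 1) ^ i * U := by
    have := congrArg (fun t : 𝓞 (rootField p) => (((t : rootField p)) : ℂ)) hu
    simp only [map_mul, map_pow, map_sub, map_one] at this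
    push_cast at this
    exact this.symm
  have hUi : ∀ x : 𝓞 (rootField p), IsIntegral ℤ (((x : rootField p)) : ℂ) := fun x =>
    (RingOfIntegers.isIntegral_coe x).map ((rootField p).val.restrictScalars ℤ)
  have hζ0 : ζ ≠ 0 := fun e => by simp [e, zero_pow hp0] at hζp
  have hζ1 : ζ - 1 ≠ 0 := sub_ne_zero.mpr ((isPrimitiveRoot_exp' hp0).ne_one hp.out.one_lt)
  have e : conj y / y = (-conj ζ) ^ i * (conj U * U') := by
    rw [hy', map_mul, map_pow, map_sub, map_one, div_eq_iff
      (mul_ne_zero (pow_ne_zero _ hζ1) (left_ne_zero_of_mul_eq_one hUU))]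
    have e1 : conj ζ - 1 = -conj ζ * (ζ - 1) := by
      rw [hconj]; field_simp; ring
    rw [e1, mul_pow]
    linear_combination (-(-conj ζ) ^ i * (ζ - 1) ^ i * conj U) * hUU
  rw [e]
  refine IsIntegral.mul (IsIntegral.pow (IsIntegral.neg ?_) _) (IsIntegral.mul ?_ (hUi _))
  · refine IsIntegral.of_pow hp.out.pos ?_
    rw [← map_pow, hζp, map_one]
    exact isIntegral_one
  · exact (hUi _).map ((Complex.conjAe.toAlgHom).restrictScalars ℤ)

end CfsgLib.Blocks.KGV
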