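/-
Knörr's class number criterion for coprime semidirect products.
-/
import Cfsg.Prelude.Def_Blocks
import Cfsg.Agent.Lib.CharTheory.More
import Cfsg.Agent.Lib.CharTheory.Degree
import Cfsg.Agent.Lib.CharTheory.Irr
import Cfsg.Agent.Lib.CharTheory.RootFieldFixed
import Mathlib.GroupTheory.NoncommCoprod
import Mathlib.Algebra.CharP.Lemmas

namespace CfsgLib.Blocks.KGV.Knorr

open Cfsg CfsgLib.CharTheory
open scoped ComplexConjugate

/-- `m * m'` is not in a modular ideal when both are prime to `p`. -/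
theorem natCast_notMem {p : ℕ} {M : Ideal AlgInt} (hM : IsPModular p M) {d : ℕ} (hd : ¬ p ∣ d) :
    (d : AlgInt) ∉ M := by
  intro h
  obtain ⟨a, b, hab⟩ := Int.isCoprime_iff_nat_coprime.mpr
    (show (Int.natAbs (p : ℤ)).Coprime (Int.natAbs (d : ℤ)) by
      simpa using hM.1.coprime_iff_not_dvd.mpr hd)
  have h1 : ((a * p + b * d : ℤ) : AlgInt) ∈ M := by
    push_cast
    exact M.add_mem (M.mul_mem_left _ hM.2.2) (M.mul_mem_left _ h)
  rw [hab, Int.cast_one] at h1
  exact hM.2.1.ne_top ((Ideal.eq_top_iff_one M).mpr h1)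

/-- A character value at an element of order dividing `p` lies outside `M` when the degree is
prime to `p`. -/
theorem value_notMem {X : Type*} [Group X] [Finite X] {p : ℕ} {M : Ideal AlgInt}
    (hM : IsPModular p M) {χ : X → ℂ} (hχ : IsCharacter X χ) {d : ℕ} (hd : χ 1 = d) (hpd : ¬ p ∣ d)
    {v : X} (hv : v ^ p = 1) : (⟨χ v, isIntegral_of_char hχ v⟩ : AlgInt) ∉ M := by
  intro h
  obtain ⟨s, hs, hpow⟩ := exists_roots_pow hχ v
  haveI := hM.2.1
  haveI : Fact p.Prime := ⟨hM.1⟩
  let q := Ideal.Quotient.mk M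
  have hp0 : (p : AlgInt ⧸ M) = 0 := by
    rw [← map_natCast q]; exact Ideal.Quotient.eq_zero_iff_mem.mpr hM.2.2
  haveI : CharP (AlgInt ⧸ M) p := by
    refine ⟨fun x => ⟨fun hx => ?_, ?_⟩⟩
    · by_contra hpx
      refine natCast_notMem hM hpx (Ideal.Quotient.eq_zero_iff_mem.mp ?_)
      rw [map_natCast]; exact hx
    · rintro ⟨k, rfl⟩
      push_cast
      rw [hp0, zero_mul]
  have hint : ∀ x ∈ s, IsIntegral ℤ x := fun x hx =>
    IsIntegral.of_pow Nat.card_pos (by rw [hs x hx]; exact isIntegral_one)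
  let t : Multiset AlgInt := s.attach.map fun x => ⟨x.1, hint x.1 x.2⟩
  have hval : ∀ m : ℕ, (((t.map (· ^ m)).sum : AlgInt) : ℂ) = (s.map (· ^ m)).sum := by
    intro m
    have e : (((t.map (· ^ m)).sum : AlgInt) : ℂ) = ((t.map (· ^ m)).map (AlgInt.val)).sum :=
      map_multiset_sum AlgInt.val _
    rw [e, Multiset.map_map]
    have e3 : t.map AlgInt.val = s := by
      rw [Multiset.map_map]
      exact Multiset.attach_map_val s
    conv_rhs => rw [← e3, Multiset.map_map]
    simp [Function.comp_def]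
  have e1 : (⟨χ v, isIntegral_of_char hχ v⟩ : AlgInt) = t.sum := by
    apply Subtype.ext
    have := hval 1
    simp only [pow_one, Multiset.map_id'] at this
    rw [this]
    simpa using hpow 1
  have e2 : ((d : ℕ) : AlgInt) = (t.map (· ^ p)).sum := by
    apply Subtype.ext
    rw [hval p, ← hpow p, hv, hd]
    simp
  apply natCast_notMem hM hpd
  rw [← Ideal.Quotient.eq_zero_iff_mem, e2, map_multiset_sum, Multiset.map_map]
  have hfr : q t.sum ^ p = ((t.map q).map (· ^ p)).sum := by
    rw [map_multiset_sum, multiset_sum_pow_char]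
  rw [Multiset.map_map] at hfr
  simp only [Function.comp_def, map_pow] at hfr ⊢
  rw [← hfr, ← e1, Ideal.Quotient.eq_zero_iff_mem.mpr h, zero_pow hM.1.ne_zero]

theorem degree_dvd {K : Type*} [Group K] [Finite K] (β : IrrCharacter K) :
    ∃ d : ℕ, (β : K → ℂ) 1 = d ∧ d ∣ Nat.card K := by
  obtain ⟨β, m, ρ, hρ, rfl⟩ := β
  refine ⟨_, ρ.char_one, ?_⟩
  rw [← Subgroup.index_bot]
  exact degree_dvd_index_of_abelian_normal ρ ⊥ (fun a ha b hb => by
    rw [Subgroup.mem_bot.mp ha, Subgroup.mem_bot.mp hb])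

/-- Central elements act by roots of unity. -/
theorem exists_central_root {K : Type*} [Group K] [Finite K] {ω : K → ℂ} (hω : IsIrrCharacter K ω)
    {z : K} (hz : z ∈ Subgroup.center K) :
    ∃ s : ℂ, IsIntegral ℤ s ∧ ∀ g, ω (z * g) = s * ω g := by
  haveI := Fintype.ofFinite K
  obtain ⟨m, ρ, hρ, rfl⟩ := hω
  obtain ⟨s, hs⟩ := exists_scalar_of_mem_center ρ hz
  have hmul : ∀ g, ρ.character (z * g) = s * ρ.character g := fun g => by
    simp only [Representation.character, map_mul, hs]
    rw [smul_mul_assoc, map_smul, smul_eq_mul, ← Module.End.one_eq_id, one_mul]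
  refine ⟨s, IsIntegral.of_pow (n := Nat.card K) Nat.card_pos ?_, hmul⟩
  have hiter : ∀ k : ℕ, ρ.character (z ^ k) = s ^ k * ρ.character 1 := by
    intro k
    induction k with
    | zero => simp
    | succ k ih => rw [pow_succ', hmul, ih, pow_succ' s]; ring
  have h := hiter (Nat.card K)
  rw [pow_card_eq_one'] at h
  rw [(mul_eq_right₀ (irr_ne_zero ⟨m, ρ, hρ, rfl⟩)).mp h.symm]
  exact isIntegral_one

/-- Weighted averages of characters over a stabiliser are integral. -/
theorem isIntegral_avg {X : Type*} [Group X] [Finite X] (C : Subgroup X) [Fintype C] (v : X)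
    (hvc : ∀ c : C, v * (c : X) = (c : X) * v) {χ : X → ℂ} (hχ : IsCharacter X χ)
    {ψ : C → ℂ} (hψ : IsCharacter C ψ) (θ : C → ℂ)
    (hint : ∀ ρ, IsCharacter C ρ → IsIntegral ℤ ((Fintype.card C : ℂ)⁻¹ * ∑ c, θ c * ρ c)) :
    IsIntegral ℤ ((Fintype.card C : ℂ)⁻¹ * ∑ c : C, χ (v * (c : X)) * θ c * ψ c) := by
  classical
  have hcomm : ∀ (z : Subgroup.zpowers v) (c : C),
      Commute ((Subgroup.zpowers v).subtype z) (C.subtype c) := by
    rintro ⟨z, hz⟩ c
    obtain ⟨i, rfl⟩ := Subgroup.mem_zpowers_iff.mp hz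
    exact (show Commute v (c : X) from hvc c).zpow_left i
  let f : Subgroup.zpowers v × C →* X :=
    MonoidHom.noncommCoprod (Subgroup.zpowers v).subtype C.subtype hcomm
  let vv : Subgroup.zpowers v := ⟨v, Subgroup.mem_zpowers v⟩
  obtain ⟨l, hl, he⟩ := exists_list_irr (isCharacter_comp hχ f)
  have hval : ∀ c : C, χ (v * (c : X)) = (l.map fun ω => ω (vv, c)).sum := by
    intro c
    have h := congrFun he (vv, c)
    rw [Pi.list_sum_apply] at h
    rw [← h]
    rfl
  simp only [hval]
  clear hval he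
  induction l with
  | nil => simp [isIntegral_zero]
  | cons ω l ih =>
    simp only [List.map_cons, List.sum_cons, add_mul, Finset.sum_add_distrib, mul_add]
    refine IsIntegral.add ?_ (ih fun x hx => hl x (List.mem_cons_of_mem _ hx))
    have hω := hl ω List.mem_cons_self
    have hz : ((vv, 1) : Subgroup.zpowers v × C) ∈ Subgroup.center _ :=
      Subgroup.mem_center_iff.mpr fun g => Prod.ext
        (Std.Commutative.comm (op := (· * ·)) g.1 vv) (by simp)
    obtain ⟨s, hs, hmul⟩ := exists_central_root hω hz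
    have e : ∀ c : C, ω (vv, c) * θ c * ψ c = s * (θ c * (ω (1, c) * ψ c)) := fun c => by
      have := hmul (1, c)
      rw [Prod.mk_mul_mk, mul_one, one_mul] at this
      rw [this]; ring
    simp only [e, ← Finset.mul_sum]
    rw [mul_left_comm]
    exact hs.mul (hint _ (isCharacter_mul
      (isCharacter_comp (isCharacter_of_irr hω) (MonoidHom.inr (Subgroup.zpowers v) C)) hψ))

/-- Knörr's criterion: a class function with `p`-singular values off the identity, integral
inner products and small square norms bounds the class number. -/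
theorem card_le_of_weight {X : Type*} [Group X] [Finite X] (p : ℕ) [Fact p.Prime]
    (V : Subgroup X) [V.Normal] (hVexp : ∀ v ∈ V, v ^ p = 1) (hidx : ¬ p ∣ V.index)
    (hVc : ∀ u ∈ V, ∀ w ∈ V, u * w = w * u)
    (G : Subgroup X) (hGV : Subgroup.IsComplement' V G) (v : X) (hv : v ∈ V)
    (C : Subgroup X) [Fintype C] (hC : C = G ⊓ Subgroup.centralizer ({v} : Set X))
    (n : ℕ) (hn : n ≠ 0) (hXn : Nat.card X ∣ n)
    (θ : C → ℂ) (hθc : IsClassFunction C θ) (hθn : ∀ c, θ c ∈ rootField n)
    (hθi : ∀ c, IsIntegral ℤ (θ c)) (hθ1 : θ 1 = 1)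
    (hint : ∀ ρ, IsCharacter C ρ → IsIntegral ℤ ((Fintype.card C : ℂ)⁻¹ * ∑ c, θ c * ρ c))
    (hθM : ∀ M : Ideal AlgInt, IsPModular p M → ∀ c : C, c ≠ 1 → (⟨θ c, hθi c⟩ : AlgInt) ∈ M)
    (D : C → ℕ) (hD : ∀ c, θ c * conj (θ c) = (D c : ℂ))
    (hDle : ∀ c : C, D c * Nat.card ↥(V ⊓ Subgroup.centralizer ({(c : X)} : Set X)) ≤ Nat.card V)
    (M : Ideal AlgInt) (hM : IsPModular p M) :
    Nat.card (ConjClasses X) ≤ Nat.card V := by
  classical
  have := Fintype.ofFinite X
  have hp : p.Prime := Fact.out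
  have hvc : ∀ c : C, v * (c : X) = (c : X) * v := fun c => by
    have h : (c : X) ∈ Subgroup.centralizer ({v} : Set X) := (hC.le c.2).2
    exact (Subgroup.mem_centralizer_singleton_iff.mp h).symm
  have hCG : C ≤ G := hC.le.trans inf_le_left
  have hCdvd : Nat.card C ∣ V.index :=
    hGV.symm.index_eq_card.symm ▸ Subgroup.card_dvd_of_le hCG
  have hCcop : (Nat.card C).Coprime p :=
    (hp.coprime_iff_not_dvd.mpr fun h => hidx (h.trans hCdvd)).symm
  have hC0 : (Fintype.card C : ℂ) ≠ 0 := Nat.cast_ne_zero.mpr Fintype.card_ne_zero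
  let f : IrrCharacter X → C → ℂ := fun χ c => (χ : X → ℂ) (v * (c : X)) * θ c
  have hfcl : ∀ χ, IsClassFunction C (f χ) := fun χ g h => by
    show (χ : X → ℂ) (v * ((h * g * h⁻¹ : C) : X)) * θ (h * g * h⁻¹) = _
    rw [hθc g h]
    congr 1
    rw [show v * ((h * g * h⁻¹ : C) : X) = (h : X) * (v * (g : X)) * (h : X)⁻¹ by
      push_cast
      rw [← mul_assoc, ← mul_assoc, hvc h, mul_assoc (h : X) v g]]
    exact isClassFunction_char (isCharacter_of_irr χ.2) _ _
  let x : IrrCharacter X → IrrCharacter C → ℂ := fun χ β => classInner (f χ) (β : C → ℂ)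
  have hxint : ∀ χ β, IsIntegral ℤ (x χ β) := fun χ β => by
    have := isIntegral_avg C v hvc (isCharacter_of_irr χ.2)
      (isCharacter_conj (isCharacter_of_irr β.2)) θ hint
    simpa [x, classInner, f, Nat.card_eq_fintype_card] using this
  have hXn' : ∀ {z : ℂ}, z ∈ rootField (Nat.card X) → z ∈ rootField n := fun hz =>
    rootField_mono Nat.card_pos.ne' hn hXn hz
  have hxn : ∀ χ β, x χ β ∈ rootField n := fun χ β => by
    refine mul_mem (inv_mem (natCast_mem _ _)) (sum_mem fun c _ => mul_mem (mul_mem (hXn'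
        (char_mem_rootField (isCharacter_of_irr χ.2) _)) (hθn c)) ?_)
    exact rootField_mono Nat.card_pos.ne' hn ((Subgroup.card_subgroup_dvd_card C).trans hXn)
      (char_mem_rootField (isCharacter_conj (isCharacter_of_irr β.2)) c)
  have hxne : ∀ χ β, x χ β ≠ 0 := by
    intro χ β h0
    obtain ⟨dχ, hdχ, hdχd⟩ : ∃ d : ℕ, (χ : X → ℂ) 1 = d ∧ d ∣ V.index := by
      obtain ⟨χ, m, ρ, hρ, rfl⟩ := χ
      exact ⟨_, ρ.char_one, degree_dvd_index_of_abelian_normal ρ V hVc⟩
    obtain ⟨dβ, hdβ, hdβd⟩ := degree_dvd β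
    let F : C → AlgInt := fun c =>
      ⟨(χ : X → ℂ) (v * (c : X)), isIntegral_of_char (isCharacter_of_irr χ.2) _⟩ * ⟨θ c, hθi c⟩ *
        ⟨conj ((β : C → ℂ) c), isIntegral_of_char (isCharacter_conj (isCharacter_of_irr β.2)) c⟩
    have hsum : ∑ c, F c = 0 := by
      apply Subtype.ext
      have h1 : ∑ c, f χ c * conj ((β : C → ℂ) c) = 0 := by
        simpa [x, classInner, Nat.card_pos.ne'] using h0
      push_cast
      simpa [F, f] using h1
    have h1 : F 1 ∈ M := by
      rw [← Finset.add_sum_erase _ _ (Finset.mem_univ 1), add_eq_zero_iff_eq_neg] at hsum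
      rw [hsum]
      exact M.neg_mem (M.sum_mem fun c hc => M.mul_mem_right _
        (M.mul_mem_left _ (hθM M hM c (Finset.ne_of_mem_erase hc))))
    have e : F 1 = (⟨(χ : X → ℂ) v, isIntegral_of_char (isCharacter_of_irr χ.2) _⟩ : AlgInt) *
        (dβ : AlgInt) := Subtype.ext (by simp [F, hθ1, hdβ])
    rw [e] at h1
    rcases hM.2.1.isPrime.mem_or_mem h1 with h2 | h2
    · exact value_notMem hM (isCharacter_of_irr χ.2) hdχ (fun h => hidx (h.trans hdχd))
        (hVexp v hv) h2
    · exact natCast_notMem hM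
        (fun h => hp.coprime_iff_not_dvd.mp hCcop.symm (h.trans hdβd)) h2
  -- the sum of the square norms
  set T := ∑ c : C, D c * Nat.card (Subgroup.centralizer ({v * (c : X)} : Set X)) with hT
  have hTeq : ∑ q : IrrCharacter X × IrrCharacter C × Fin (Fintype.card C),
      x q.1 q.2.1 * conj (x q.1 q.2.1) = (T : ℂ) := by
    have h1 : ∀ χ, ∑ β : IrrCharacter C, x χ β * conj (x χ β) =
        (Fintype.card C : ℂ)⁻¹ * ∑ c, f χ c * conj (f χ c) := by
      intro χ
      have := classInner_eq_sum_irr (b := f χ) (hfcl χ)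
      rw [show ∑ β : IrrCharacter C, x χ β * conj (x χ β) = classInner (f χ) (f χ) by
        rw [this]; exact Finset.sum_congr rfl fun β _ => by rw [classInner_comm]]
      simp [classInner, Nat.card_eq_fintype_card]
    simp only [Fintype.sum_prod_type, Finset.sum_const, Finset.card_univ, Fintype.card_fin,
      nsmul_eq_mul, ← Finset.mul_sum, h1, mul_inv_cancel_left₀ hC0]
    rw [Finset.sum_comm, hT]
    push_cast
    refine Finset.sum_congr rfl fun c _ => ?_
    have h2 := sum_irr_mul_conj (v * (c : X)) (v * (c : X))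
    rw [if_pos (IsConj.refl _)] at h2
    rw [← h2, Finset.mul_sum]
    refine Finset.sum_congr rfl fun χ _ => ?_
    rw [← hD c]
    simp only [f, map_mul]
    ring
  have hcount := card_le_of_sum_normSq hn
    (Finset.univ : Finset (IrrCharacter X × IrrCharacter C × Fin (Fintype.card C)))
    (fun q => x q.1 q.2.1) (fun q _ => hxn _ _) (fun q _ => hxint _ _) (fun q _ => hxne _ _) T hTeq
  rw [Finset.card_univ, Fintype.card_prod, Fintype.card_prod, Fintype.card_fin,
    ← Nat.card_eq_fintype_card, ← Nat.card_eq_fintype_card, card_irr_eq_card_conjClasses,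
    card_irr_eq_card_conjClasses] at hcount
  -- centralisers
  have hcent : ∀ c : C, Nat.card (Subgroup.centralizer ({v * (c : X)} : Set X)) ≤
      Nat.card ↥(V ⊓ Subgroup.centralizer ({(c : X)} : Set X)) *
        Nat.card {a : C // Commute c a} := by
    intro c
    have hsplit : ∀ y ∈ Subgroup.centralizer ({v * (c : X)} : Set X),
        Commute y v ∧ Commute y (c : X) := by
      intro y hy
      rw [Subgroup.mem_centralizer_singleton_iff] at hy
      have hy' : Commute y (v * (c : X)) := hy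
      obtain ⟨i, hi⟩ : ∃ i : ℤ, (v * (c : X)) ^ i = v := by
        obtain ⟨a, b, hab⟩ := Int.isCoprime_iff_nat_coprime.mpr
          (show (Int.natAbs (Nat.card C)).Coprime (Int.natAbs p) by simpa using hCcop)
        refine ⟨a * Nat.card C, ?_⟩
        have h1 : (c : X) ^ (Nat.card C : ℤ) = 1 := by
          rw [zpow_natCast, ← SubmonoidClass.coe_pow, pow_card_eq_one', OneMemClass.coe_one]
        have h2 : v ^ (p : ℤ) = 1 := by rw [zpow_natCast, hVexp v hv]
        rw [(show Commute v (c : X) from hvc c).mul_zpow,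
          show (c : X) ^ (a * (Nat.card C : ℤ)) = 1 by rw [mul_comm, zpow_mul, h1, one_zpow],
          mul_one, eq_sub_of_add_eq hab, sub_eq_add_neg, zpow_add, zpow_one, mul_comm b, ← mul_neg,
          zpow_mul, h2, one_zpow, mul_one]
      have hyv : Commute y v := hi ▸ hy'.zpow_right i
      refine ⟨hyv, ?_⟩
      have := (hyv.inv_right).mul_right hy'
      rwa [inv_mul_cancel_left] at this
    have hdec : ∀ y : X, ∃ w : V, ∃ g : G, y = (w : X) * g := fun y => by
      obtain ⟨⟨w, g⟩, h⟩ := hGV.2 y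
      exact ⟨w, g, h.symm⟩
    choose w g hwg using hdec
    have hmem : ∀ y ∈ Subgroup.centralizer ({v * (c : X)} : Set X),
        (g y : X) ∈ C ∧ (g y : X) * c = (c : X) * g y ∧
          (w y : X) ∈ V ⊓ Subgroup.centralizer ({(c : X)} : Set X) := by
      intro y hy
      obtain ⟨h1, h2⟩ := hsplit y hy
      have hgv : (g y : X) * v = v * g y := by
        have hw : (w y : X) * v = v * w y := hVc _ (w y).2 _ hv
        have h1' : y * v = v * y := h1
        rw [hwg y, mul_assoc, ← mul_assoc v, ← hw, mul_assoc] at h1'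
        exact mul_left_cancel h1'
      have hgC : (g y : X) ∈ C :=
        hC.ge ⟨(g y).2, Subgroup.mem_centralizer_singleton_iff.mpr hgv⟩
      -- uniqueness of the decomposition
      have hu := @hGV.1
        (⟨(c : X) * w y * (c : X)⁻¹, ‹V.Normal›.conj_mem _ (w y).2 _⟩,
          ⟨(c : X) * g y, G.mul_mem (hCG c.2) (g y).2⟩)
        (w y, ⟨(g y : X) * c, G.mul_mem (g y).2 (hCG c.2)⟩) (by
          show (c : X) * w y * (c : X)⁻¹ * ((c : X) * g y) = (w y : X) * ((g y : X) * c)
          have e : (w y : X) * ((g y : X) * c) = (c : X) * ((w y : X) * g y) := by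
            rw [← mul_assoc, ← hwg y, h2.eq]
          rw [e]
          group)
      simp only [Prod.mk.injEq, Subtype.ext_iff] at hu
      refine ⟨hgC, hu.2.symm, (w y).2, Subgroup.mem_centralizer_singleton_iff.mpr ?_⟩
      exact (mul_inv_eq_iff_eq_mul.mp hu.1).symm
    rw [← Nat.card_prod]
    refine Nat.card_le_card_of_injective (fun y => (⟨_, (hmem y y.2).2.2⟩,
      ⟨⟨_, (hmem y y.2).1⟩, Subtype.ext (hmem y y.2).2.1.symm⟩)) fun y y' h => ?_
    simp only [Prod.mk.injEq, Subtype.ext_iff] at h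
    apply Subtype.ext
    rw [hwg (y : X), hwg (y' : X), h.1, h.2]
  have hTle : T ≤ Nat.card V * (Nat.card (ConjClasses C) * Nat.card C) := by
    rw [hT, ← card_comm_eq_card_conjClasses_mul_card,
      Nat.card_congr ((Equiv.subtypeProdEquivSigmaSubtype fun a b : C => Commute a b)),
      Nat.card_sigma, Finset.mul_sum]
    refine Finset.sum_le_sum fun c _ => ?_
    calc _ ≤ D c * (Nat.card ↥(V ⊓ Subgroup.centralizer ({(c : X)} : Set X)) * _) :=
          Nat.mul_le_mul_left _ (hcent c)
      _ ≤ _ := by rw [← mul_assoc]; exact Nat.mul_le_mul_right _ (hDle c)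
  have hpos : 0 < Nat.card (ConjClasses C) * Nat.card C := Nat.mul_pos Nat.card_pos Nat.card_pos
  rw [← Nat.card_eq_fintype_card (α := C)] at hcount
  exact Nat.le_of_mul_le_mul_right (hcount.trans hTle) hpos

end CfsgLib.Blocks.KGV.Knorr
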