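/-
Weight functions of coprime modules.
-/
import Cfsg.Agent.Lib.Blocks.KGV.Knorr
import Cfsg.Agent.Lib.CharTheory.MultFree
import Mathlib.LinearAlgebra.Dimension.Finite
import Mathlib.FieldTheory.Finiteness

namespace CfsgLib.Blocks.KGV

open Cfsg CfsgLib.CharTheory
open scoped ComplexConjugate

variable {p : ℕ} [hp : Fact p.Prime] {C : Type*} [Group C] [Fintype C]
variable {U : Type*} [AddCommGroup U] [Finite U] [Module (ZMod p) U]

/-- A weight function of a module: integral inner products, `p`-singular values on moving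
elements and the prescribed square norms. -/
structure IsWeight (ρ : Representation (ZMod p) C U) (θ : C → ℂ) : Prop where
  cf : IsClassFunction C θ
  field : ∃ n, n ≠ 0 ∧ ∀ c, θ c ∈ rootField n
  int : ∀ c, IsIntegral ℤ (θ c)
  one : θ 1 = 1
  avg : ∀ χ, IsCharacter C χ → IsIntegral ℤ ((Fintype.card C : ℂ)⁻¹ * ∑ c, θ c * χ c)
  norm : ∀ c, θ c * conj (θ c) * (Nat.card {u : U // ρ c u = u} : ℂ) = (Nat.card U : ℂ)
  sing : ∀ M : Ideal AlgInt, IsPModular p M → ∀ c, (∃ u, ρ c u ≠ u) →
    ∀ h : IsIntegral ℤ (θ c), (⟨θ c, h⟩ : AlgInt) ∈ M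

theorem rep_inv_apply (ρ : Representation (ZMod p) C U) (c : C) (u : U) : ρ c⁻¹ (ρ c u) = u := by
  rw [← Module.End.mul_apply, ← map_mul, inv_mul_cancel, map_one, Module.End.one_apply]

theorem rep_mul_apply (ρ : Representation (ZMod p) C U) (a b : C) (u : U) :
    ρ (a * b) u = ρ a (ρ b u) := by
  rw [map_mul, Module.End.mul_apply]

/-- Fixed vectors and commutators give a direct decomposition. -/
theorem fix_range_bijective (hcop : (Nat.card C).Coprime p) (ρ : Representation (ZMod p) C U)
    (c : C) :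
    Function.Bijective (fun x : (LinearMap.ker (ρ c - 1)) × (LinearMap.range (ρ c - 1)) =>
      (x.1 : U) + (x.2 : U)) := by
  have hcard : Nat.card ((LinearMap.ker (ρ c - 1)) × (LinearMap.range (ρ c - 1))) = Nat.card U := by
    rw [Nat.card_prod, ← Nat.card_congr (LinearMap.quotKerEquivRange (ρ c - 1)).toEquiv]
    exact (Submodule.card_eq_card_quotient_mul_card _).symm.trans (by ring_nf) |>.trans rfl
  refine (Nat.bijective_iff_injective_and_card _).mpr ⟨?_, hcard⟩
  have h0 : ∀ f : U, f ∈ LinearMap.ker (ρ c - 1) → f ∈ LinearMap.range (ρ c - 1) → f = 0 := by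
    intro f hf ⟨u, hu⟩
    have hf' : ρ c f = f := by simpa [sub_eq_zero] using hf
    have hu' : ρ c u = u + f := by rw [← hu]; simp
    have hiter : ∀ k : ℕ, ρ (c ^ k) u = u + k • f := by
      intro k
      induction k with
      | zero => simp
      | succ k ih =>
        rw [pow_succ', rep_mul_apply, ih, map_add, hu', map_nsmul, hf', succ_nsmul]
        abel
    have h1 := hiter (Nat.card C)
    rw [pow_card_eq_one', map_one, Module.End.one_apply, left_eq_add,
      ← Nat.cast_smul_eq_nsmul (ZMod p)] at h1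
    refine (smul_eq_zero.mp h1).resolve_left fun e => ?_
    rw [ZMod.natCast_eq_zero_iff] at e
    exact hp.out.coprime_iff_not_dvd.mp hcop.symm e
  rintro ⟨⟨f, hf⟩, ⟨d, hd⟩⟩ ⟨⟨f', hf'⟩, ⟨d', hd'⟩⟩ h
  simp only at h
  have e : f - f' = d' - d := by
    rw [sub_eq_sub_iff_add_eq_add, h, add_comm]
  have := h0 _ (sub_mem hf hf') (e ▸ sub_mem hd' hd)
  obtain rfl : f = f' := sub_eq_zero.mp this
  obtain rfl : d = d' := add_left_cancel h
  rfl

/-- The permutation character on the vectors. -/
theorem isCharacter_card_fix (ρ : Representation (ZMod p) C U) :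
    IsCharacter C (fun c => (Nat.card {u : U // ρ c u = u} : ℂ)) := by
  letI : MulAction C U :=
    { smul := fun c u => ρ c u
      one_smul := fun u => by show ρ 1 u = u; simp
      mul_smul := fun a b u => rep_mul_apply ρ a b u }
  have := Fintype.ofFinite U
  have h := isCharacter_character (Cfsg.permRep ℂ C U)
  rw [permRep_character] at h
  exact h

/-- Integrality of the inner products may be tested after multiplying by the number of fixed
vectors. -/
theorem avg_of_mul_fix (hcop : (Nat.card C).Coprime p) (ρ : Representation (ZMod p) C U)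
    {θ : C → ℂ} (hθ : ∀ c, IsIntegral ℤ (θ c))
    (h : ∀ χ, IsCharacter C χ → IsIntegral ℤ ((Fintype.card C : ℂ)⁻¹ *
      ∑ c, θ c * (Nat.card {u : U // ρ c u = u} : ℂ) * χ c))
    {χ : C → ℂ} (hχ : IsCharacter C χ) :
    IsIntegral ℤ ((Fintype.card C : ℂ)⁻¹ * ∑ c, θ c * χ c) := by
  classical
  set π : C → ℂ := fun c => (Nat.card {u : U // ρ c u = u} : ℂ) with hπ
  set e := Nat.totient (Fintype.card C) with he
  obtain ⟨e', he'⟩ : ∃ e', e = e' + 1 :=
    ⟨e - 1, (Nat.succ_pred_eq_of_pos (Nat.totient_pos.mpr Fintype.card_pos)).symm⟩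
  have hpow : ∀ k : ℕ, IsCharacter C (fun c => χ c * π c ^ k) := by
    intro k
    induction k with
    | zero => simpa using hχ
    | succ k ih =>
      have := isCharacter_mul ih (isCharacter_card_fix ρ)
      convert this using 1
      funext c
      simp [π, pow_succ, mul_assoc]
  have h1 := h _ (hpow e')
  have hq : ∀ c, ∃ q : ℤ, π c ^ e = 1 + (Fintype.card C : ℂ) * q := by
    intro c
    have hfix : Nat.card {u : U // ρ c u = u} = Nat.card (LinearMap.ker (ρ c - 1)) :=
      Nat.card_congr (Equiv.subtypeEquivRight fun u => by simp [sub_eq_zero])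
    have hcp : (Nat.card {u : U // ρ c u = u}).Coprime (Fintype.card C) := by
      rw [hfix, Module.natCard_eq_pow_finrank (K := ZMod p), Nat.card_zmod,
        ← Nat.card_eq_fintype_card]
      exact hcop.symm.pow_left _
    obtain ⟨q, hq⟩ := (Int.modEq_iff_dvd.mp
      ((Int.natCast_modEq_iff.mpr (Nat.ModEq.pow_totient hcp)).symm))
    refine ⟨q, ?_⟩
    have := congrArg (fun z : ℤ => (z : ℂ)) hq
    push_cast at this
    linear_combination this
  choose q hq using hq
  have e1 : (Fintype.card C : ℂ)⁻¹ * ∑ c, θ c * χ c =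
      (Fintype.card C : ℂ)⁻¹ * ∑ c, θ c * π c * (χ c * π c ^ e') -
        ∑ c, θ c * χ c * (q c : ℂ) := by
    have hC0 : (Fintype.card C : ℂ) ≠ 0 := Nat.cast_ne_zero.mpr Fintype.card_ne_zero
    rw [eq_sub_iff_add_eq, Finset.mul_sum, Finset.mul_sum, ← Finset.sum_add_distrib]
    refine Finset.sum_congr rfl fun c _ => ?_
    have := hq c
    rw [he', pow_succ] at this
    field_simp
    linear_combination -(θ c * χ c) * this
  rw [e1]
  exact h1.sub (IsIntegral.sum _ fun c _ =>
    ((hθ c).mul (isIntegral_of_char hχ c)).mul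
      (by simpa using (isIntegral_algebraMap (R := ℤ) (A := ℂ) (x := q c))))

/-- The trivial weight. -/
theorem isWeight_one (ρ : Representation (ZMod p) C U) (htriv : ∀ c u, ρ c u = u) :
    IsWeight ρ (fun _ => 1) where
  cf := fun _ _ => rfl
  field := ⟨1, one_ne_zero, fun _ => one_mem _⟩
  int := fun _ => isIntegral_one
  one := rfl
  avg := fun χ hχ => by
    obtain ⟨k, hk⟩ := (isCharacter_iff_coeff_nat.mp hχ).2 (fun _ => 1) isIrrCharacter_one
    rw [show ((Fintype.card C : ℂ)⁻¹ * ∑ c, 1 * χ c) = (k : ℂ) by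
      rw [← hk]; simp [classInner, Nat.card_eq_fintype_card]]
    simpa using (isIntegral_algebraMap (R := ℤ) (A := ℂ) (x := (k : ℤ)))
  norm := fun c => by
    simp only [map_one, one_mul, htriv]
    exact congrArg _ (Nat.card_congr (Equiv.subtypeUnivEquiv fun _ => trivial))
  sing := fun _ _ c ⟨u, hu⟩ => absurd (htriv c u) hu

/-- The product of weights belongs to the direct sum. -/
theorem IsWeight.mul {Y Z : Type*} [AddCommGroup Y] [Finite Y] [Module (ZMod p) Y]
    [AddCommGroup Z] [Finite Z] [Module (ZMod p) Z] {ρ : Representation (ZMod p) C U}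
    {σ : Representation (ZMod p) C Y} {τ : Representation (ZMod p) C Z} {θ θ' : C → ℂ}
    (hθ : IsWeight σ θ) (hθ' : IsWeight τ θ') (e : Y × Z ≃ U)
    (he : ∀ c x, e (σ c x.1, τ c x.2) = ρ c (e x)) : IsWeight ρ (θ * θ') where
  cf := isClassFunction_mul hθ.cf hθ'.cf
  field := by
    obtain ⟨n, hn, h⟩ := hθ.field
    obtain ⟨m, hm, h'⟩ := hθ'.field
    exact ⟨n * m, mul_ne_zero hn hm, fun c => mul_mem
      (rootField_mono hn (mul_ne_zero hn hm) (dvd_mul_right _ _) (h c))
      (rootField_mono hm (mul_ne_zero hn hm) (dvd_mul_left _ _) (h' c))⟩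
  int := fun c => (hθ.int c).mul (hθ'.int c)
  one := by simp [hθ.one, hθ'.one]
  avg := fun χ hχ => by
    classical
    have hex := eq_sum_irr hθ'.cf
    have e1 : (Fintype.card C : ℂ)⁻¹ * ∑ c, (θ * θ') c * χ c = ∑ ψ : IrrCharacter C,
        classInner θ' (ψ : C → ℂ) *
          ((Fintype.card C : ℂ)⁻¹ * ∑ c, θ c * ((ψ : C → ℂ) * χ) c) := by
      simp only [Finset.mul_sum]
      rw [Finset.sum_comm]
      refine Finset.sum_congr rfl fun c _ => ?_
      rw [Pi.mul_apply, congrFun hex c, Finset.sum_apply, Finset.mul_sum, Finset.sum_mul,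
        Finset.mul_sum]
      refine Finset.sum_congr rfl fun ψ _ => ?_
      simp only [Pi.smul_apply, Pi.mul_apply, smul_eq_mul]
      ring
    rw [e1]
    refine IsIntegral.sum _ fun ψ _ => IsIntegral.mul ?_
      (hθ.avg _ (isCharacter_mul (isCharacter_of_irr ψ.2) hχ))
    simpa [classInner, Nat.card_eq_fintype_card] using
      hθ'.avg _ (isCharacter_conj (isCharacter_of_irr ψ.2))
  norm := fun c => by
    have hfix : Nat.card {u : U // ρ c u = u} =
        Nat.card {y : Y // σ c y = y} * Nat.card {z : Z // τ c z = z} := by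
      rw [← Nat.card_prod]
      refine Nat.card_congr ((Equiv.subtypeEquiv e.symm fun u => ?_).trans
        (Equiv.subtypeProdEquivProd))
      constructor
      · intro h
        have := he c (e.symm u)
        rw [Equiv.apply_symm_apply, h] at this
        have := congrArg e.symm this
        rw [Equiv.symm_apply_apply, Prod.ext_iff] at this
        exact this
      · intro h
        have := he c (e.symm u)
        rw [show (σ c (e.symm u).1, τ c (e.symm u).2) = e.symm u from Prod.ext h.1 h.2,
          Equiv.apply_symm_apply] at this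
        exact this.symm
    rw [hfix, Pi.mul_apply, map_mul, Nat.cast_mul, ← Nat.card_congr e, Nat.card_prod, Nat.cast_mul,
      ← hθ.norm c, ← hθ'.norm c]
    ring
  sing := fun M hM c ⟨u, hu⟩ h => by
    have hmove : (∃ y, σ c y ≠ y) ∨ ∃ z, τ c z ≠ z := by
      by_contra hno
      simp only [not_or, not_exists, ne_eq, not_not] at hno
      refine hu ?_
      have := he c (e.symm u)
      rw [hno.1, hno.2, Equiv.apply_symm_apply] at this
      exact this.symm
    have e1 : (⟨(θ * θ') c, h⟩ : AlgInt) =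
        (⟨θ c, hθ.int c⟩ : AlgInt) * ⟨θ' c, hθ'.int c⟩ := rfl
    rw [e1]
    rcases hmove with hy | hz
    · exact M.mul_mem_right _ (hθ.sing M hM c hy _)
    · exact M.mul_mem_left _ (hθ'.sing M hM c hz _)

end CfsgLib.Blocks.KGV
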