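/-
Gauss sums as weight functions.
-/
import Cfsg.Agent.Lib.Blocks.KGV.Weight

namespace CfsgLib.Blocks.KGV

open Cfsg CfsgLib.CharTheory
open scoped ComplexConjugate

variable {p : ℕ} [hp : Fact p.Prime] {C : Type*} [Group C] [Fintype C]
variable {U : Type*} [AddCommGroup U] [Fintype U] [Module (ZMod p) U]

/-- A `p`-th root of unity is congruent to one. -/
theorem root_sub_one_mem {M : Ideal AlgInt} (hM : IsPModular p M) {x : AlgInt} (hx : x ^ p = 1) :
    x - 1 ∈ M := by
  haveI := hM.2.1
  rw [← Ideal.Quotient.eq_zero_iff_mem, map_sub, map_one]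
  haveI : CharP (AlgInt ⧸ M) p := by
    have hp0 : (p : AlgInt ⧸ M) = 0 := by
      rw [← map_natCast (Ideal.Quotient.mk M)]; exact Ideal.Quotient.eq_zero_iff_mem.mpr hM.2.2
    refine ⟨fun y => ⟨fun hy => ?_, ?_⟩⟩
    · by_contra hpy
      refine Knorr.natCast_notMem hM hpy (Ideal.Quotient.eq_zero_iff_mem.mp ?_)
      rw [map_natCast]; exact hy
    · rintro ⟨k, rfl⟩
      push_cast
      rw [hp0, zero_mul]
  haveI : ExpChar (AlgInt ⧸ M) p := ExpChar.prime hp.out
  refine (pow_eq_zero_iff hp.out.ne_zero).mp ?_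
  rw [sub_pow_char, ← map_pow, hx, map_one, one_pow, sub_self]

/-- Invariant orbit sums of class functions are integral. -/
theorem avg_orbit_sum (ρ : Representation (ZMod p) C U) {f : U → ℂ} (hf : ∀ u, IsIntegral ℤ (f u))
    (hinv : ∀ c u, f (ρ c u) = f u) {χ : C → ℂ} (hχ : IsCharacter C χ) [DecidableEq U] :
    IsIntegral ℤ ((Fintype.card C : ℂ)⁻¹ *
      ∑ c, (∑ u, if ρ c u = u then f u else 0) * χ c) := by
  classical
  letI : MulAction C U :=
    { smul := fun c u => ρ c u
      one_smul := fun u => by show ρ 1 u = u; simp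
      mul_smul := fun a b u => rep_mul_apply ρ a b u }
  let s : U → ℂ := fun u => f u * ∑ c : MulAction.stabilizer C u, χ (c : C)
  have hswap : ∑ c, (∑ u, if ρ c u = u then f u else 0) * χ c = ∑ u, s u := by
    simp only [Finset.sum_mul]
    rw [Finset.sum_comm]
    refine Finset.sum_congr rfl fun u _ => ?_
    simp only [s, ite_mul, zero_mul, Finset.mul_sum, ← Finset.sum_filter]
    exact Finset.sum_subtype _ (fun c => by simp [MulAction.mem_stabilizer_iff]; rfl) _
  have hsinv : ∀ (g : C) (u : U), s (g • u) = s u := by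
    intro g u
    simp only [s]
    rw [show f (g • u) = f u from hinv g u]
    congr 1
    refine (Fintype.sum_equiv (MulAction.stabilizerEquivStabilizer (g := g) (a := u) (b := g • u) rfl).toEquiv
      _ _ fun c => ?_).symm
    show χ (c : C) = χ (g * c * g⁻¹)
    exact (isClassFunction_char hχ c g).symm
  let q : U → MulAction.orbitRel.Quotient C U := Quotient.mk''
  rw [hswap, ← Finset.sum_fiberwise Finset.univ q, Finset.mul_sum]
  refine IsIntegral.sum _ fun Q _ => ?_
  induction Q using Quotient.inductionOn' with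
  | h u =>
    have hconst : ∀ v ∈ Finset.univ.filter (fun v => q v = Quotient.mk'' u), s v = s u := by
      intro v hv
      obtain ⟨g, rfl⟩ : v ∈ MulAction.orbit C u := by
        have := (Finset.mem_filter.mp hv).2
        exact Quotient.exact' this
      exact hsinv g u
    rw [Finset.sum_congr rfl hconst, Finset.sum_const, nsmul_eq_mul]
    have hcard : (Finset.univ.filter (fun v => q v = Quotient.mk'' u)).card *
        Fintype.card (MulAction.stabilizer C u) = Fintype.card C := by
      rw [← MulAction.card_orbit_mul_card_stabilizer_eq_card_group C u]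
      congr 1
      rw [← Fintype.card_subtype]
      exact Fintype.card_congr (Equiv.subtypeEquivRight fun v =>
        ⟨fun h => Quotient.exact' h, fun h => Quotient.sound' h⟩)
    have hS0 : (Fintype.card (MulAction.stabilizer C u) : ℂ) ≠ 0 :=
      Nat.cast_ne_zero.mpr Fintype.card_ne_zero
    obtain ⟨k, hk⟩ := (isCharacter_iff_coeff_nat.mp
      (isCharacter_restrict hχ (MulAction.stabilizer C u))).2 (fun _ => 1) isIrrCharacter_one
    have hk' : ∑ c : MulAction.stabilizer C u, χ (c : C) =
        (Fintype.card (MulAction.stabilizer C u) : ℂ) * k := by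
      rw [← hk]
      simp only [classInner, map_one, mul_one, Nat.card_eq_fintype_card]
      rw [mul_inv_cancel_left₀ hS0]
    rw [show (Fintype.card C : ℂ)⁻¹ * (((Finset.univ.filter
      (fun v => q v = Quotient.mk'' u)).card : ℂ) * s u) = f u * k by
        simp only [s, hk']
        rw [← hcard, Nat.cast_mul]
        have hF0 : ((Finset.univ.filter (fun v => q v = Quotient.mk'' u)).card : ℂ) ≠ 0 :=
          Nat.cast_ne_zero.mpr (fun e => Fintype.card_ne_zero (α := C) (by rw [← hcard, e, zero_mul]))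
        field_simp]
    exact (hf u).mul (by simpa using (isIntegral_algebraMap (R := ℤ) (A := ℂ) (x := (k : ℤ))))

/-- The weight attached to an invariant nondegenerate quadratic character. -/
theorem exists_weight_gauss (hcop : (Nat.card C).Coprime p) (ρ : Representation (ZMod p) C U)
    (φ : U → ℂ) (b : U → U → ℂ) (hφp : ∀ u, φ u ^ p = 1)
    (hφadd : ∀ x y, φ (x + y) = φ x * φ y * b x y)
    (hb : ∀ x x' y, b (x + x') y = b x y * b x' y) (hsymm : ∀ x y, b x y = b y x)
    (hφinv : ∀ c u, φ (ρ c u) = φ u) (hbinv : ∀ c x y, b (ρ c x) (ρ c y) = b x y)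
    (hnd : ∀ x, (∀ y, b x y = 1) → x = 0) :
    ∃ θ, IsWeight ρ θ := by
  classical
  have hφ0' : ∀ u, φ u ≠ 0 := fun u e => by
    have := hφp u
    rw [e, zero_pow hp.out.ne_zero] at this
    exact zero_ne_one this
  have hb0 : ∀ y, b 0 y = 1 := fun y => by
    have h := hφadd 0 y
    have h' := hb 0 0 y
    rw [add_zero] at h'
    have hne : b 0 y ≠ 0 := fun e => hφ0' y (by rw [← zero_add y, h, e, mul_zero])
    exact ((mul_eq_left₀ hne).mp h'.symm)
  have hφz : φ 0 = 1 := by
    have h := hφadd 0 0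
    rw [add_zero, hb0, mul_one] at h
    exact (mul_eq_left₀ (hφ0' 0)).mp h.symm
  have hφi : ∀ u, IsIntegral ℤ (φ u) := fun u =>
    IsIntegral.of_pow hp.out.pos (by rw [hφp u]; exact isIntegral_one)
  have hφc : ∀ u, φ u * conj (φ u) = 1 := fun u => by
    rw [Complex.mul_conj, Complex.normSq_eq_norm_sq,
      Complex.norm_eq_one_of_pow_eq_one (hφp u) hp.out.ne_zero]
    simp
  -- the pieces
  let K : C → Submodule (ZMod p) U := fun c => LinearMap.ker (ρ c - 1)
  let R : C → Submodule (ZMod p) U := fun c => LinearMap.range (ρ c - 1)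
  let z : C → ℂ := fun c => ∑ d : R c, φ d
  let a : C → ℂ := fun c => ∑ x : K c, φ x
  have hKmem : ∀ c x, x ∈ K c ↔ ρ c x = x := fun c x => by simp [K, sub_eq_zero]
  have horth : ∀ c, ∀ x ∈ K c, ∀ y ∈ R c, b x y = 1 := by
    intro c x hx y ⟨u, hu⟩
    have e1 : ρ c u = u + y := by rw [← hu]; simp
    have e2 : b x (ρ c u) = b x u := by
      conv_lhs => rw [← (hKmem c x).mp hx]
      rw [hbinv]
    rw [e1, hsymm x, hb, hsymm u] at e2
    have hne : b x u ≠ 0 := fun e => hφ0' (x + u) (by rw [hφadd, e, mul_zero])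
    rw [hsymm x y]
    exact (mul_eq_left₀ hne).mp e2
  have hbij := fix_range_bijective hcop ρ
  have hG : ∀ c, ∑ u, φ u = a c * z c := by
    intro c
    rw [← Fintype.sum_bijective _ (hbij c) (fun x => φ ((x.1 : U) + (x.2 : U))) φ fun _ => rfl,
      Fintype.sum_prod_type, Finset.sum_mul]
    refine Finset.sum_congr rfl fun x _ => ?_
    rw [Finset.mul_sum]
    refine Finset.sum_congr rfl fun y _ => ?_
    rw [hφadd, horth c x x.2 y y.2, mul_one]
  have ha : ∀ c, a c * conj (a c) = (Nat.card {u : U // ρ c u = u} : ℂ) := by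
    intro c
    show (∑ x : K c, φ x) * conj (∑ x : K c, φ x) = _
    rw [map_sum, Finset.mul_sum]
    simp only [Finset.sum_mul]
    have e : ∀ y : K c, ∑ x : K c, φ x * conj (φ y) = ∑ h : K c, φ h * b h y := by
      intro y
      refine Fintype.sum_equiv (Equiv.subRight y) _ _ fun x => ?_
      simp only [Equiv.subRight_apply, Submodule.coe_sub]
      have := hφadd ((x : U) - y) y
      rw [sub_add_cancel] at this
      rw [this]
      linear_combination (φ ((x : U) - y) * b ((x : U) - y) y) * hφc y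
    rw [Finset.sum_congr rfl fun y _ => e y, Finset.sum_comm]
    simp only [← Finset.mul_sum]
    rw [Fintype.sum_eq_single (0 : K c)]
    · simp only [Submodule.coe_zero, hφz, hb0, one_mul, Finset.sum_const, Finset.card_univ,
        nsmul_eq_mul, mul_one, ← Nat.card_eq_fintype_card]
      exact congrArg _ (Nat.card_congr (Equiv.subtypeEquivRight fun x => hKmem c x))
    · intro h hh
      obtain ⟨y₀, hy₀⟩ : ∃ y : K c, b h y ≠ 1 := by
        by_contra hno
        push Not at hno
        refine hh (Subtype.ext (hnd h fun u => ?_))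
        obtain ⟨⟨x, y⟩, rfl⟩ := (hbij c).2 u
        rw [hsymm, hb, hsymm, hno x, one_mul, hsymm, horth c h h.2 y y.2]
      refine mul_eq_zero_of_right _ ?_
      by_contra hs
      refine hy₀ ((mul_eq_right₀ hs).mp ?_)
      rw [Finset.mul_sum]
      refine Fintype.sum_equiv (Equiv.addLeft y₀) _ _ fun y => ?_
      simp only [Equiv.coe_addLeft, Submodule.coe_add]
      rw [hsymm (h : U) ((y₀ : U) + y), hb, hsymm, hsymm (y : U)]
  have hK1 : ∀ u, u ∈ K 1 := fun u => (hKmem 1 u).mpr (by simp)
  have hz1 : z 1 = 1 := by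
    have : R 1 = ⊥ := by
      rw [eq_bot_iff]
      rintro y ⟨u, hu⟩
      simp at hu
      exact hu.symm
    have hs : Subsingleton (R 1) := by rw [this]; infer_instance
    show ∑ d : R 1, φ d = 1
    rw [Fintype.sum_subsingleton _ (0 : R 1), Submodule.coe_zero, hφz]
  have hGG : (∑ u, φ u) * conj (∑ u, φ u) = (Nat.card U : ℂ) := by
    rw [hG 1, hz1, mul_one, ha 1]
    exact congrArg _ (Nat.card_congr (Equiv.subtypeUnivEquiv fun u => (hKmem 1 u).mp (hK1 u)))
  have hfix0 : ∀ c, (Nat.card {u : U // ρ c u = u} : ℂ) ≠ 0 := fun c => by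
    haveI : Nonempty {u : U // ρ c u = u} := ⟨⟨0, map_zero _⟩⟩
    exact Nat.cast_ne_zero.mpr Nat.card_pos.ne'
  have hzi : ∀ c, IsIntegral ℤ (z c) := fun c => IsIntegral.sum _ fun d _ => hφi d
  have hzc : IsClassFunction C z := by
    intro g h
    have hm : ∀ y, y ∈ R g → ρ h y ∈ R (h * g * h⁻¹) := by
      rintro y ⟨u, rfl⟩
      refine ⟨ρ h u, ?_⟩
      simp only [LinearMap.sub_apply, Module.End.one_apply, map_sub, rep_mul_apply, rep_inv_apply]
    have hm' : ∀ y, y ∈ R (h * g * h⁻¹) → ρ h⁻¹ y ∈ R g := by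
      rintro y ⟨u, rfl⟩
      refine ⟨ρ h⁻¹ u, ?_⟩
      simp only [LinearMap.sub_apply, Module.End.one_apply, map_sub, rep_mul_apply, rep_inv_apply]
    refine (Fintype.sum_equiv
      { toFun := fun y : R g => (⟨ρ h y, hm y y.2⟩ : R (h * g * h⁻¹))
        invFun := fun y => ⟨ρ h⁻¹ y, hm' y y.2⟩
        left_inv := fun y => Subtype.ext (rep_inv_apply ρ h y)
        right_inv := fun y => Subtype.ext (by
          show ρ h (ρ h⁻¹ y) = y
          simpa using rep_inv_apply ρ h⁻¹ (y : U)) } _ _ fun y => ?_).symm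
    exact (hφinv h y).symm
  refine ⟨z, hzc, ⟨p, hp.out.ne_zero, fun c => sum_mem fun d _ =>
    mem_rootField hp.out.ne_zero (hφp d)⟩, hzi, hz1, fun χ hχ => ?_, fun c => ?_, ?_⟩
  · refine avg_of_mul_fix hcop ρ hzi (fun χ hχ => ?_) hχ
    have e : (Fintype.card C : ℂ)⁻¹ * ∑ c, z c * (Nat.card {u : U // ρ c u = u} : ℂ) * χ c =
        (∑ u, φ u) * ((Fintype.card C : ℂ)⁻¹ *
          ∑ c, (∑ u, if ρ c u = u then conj (φ u) else 0) * χ c) := by
      rw [mul_left_comm, Finset.mul_sum Finset.univ _ (∑ u, φ u)]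
      congr 1
      refine Finset.sum_congr rfl fun c _ => ?_
      have hca : (∑ u, if ρ c u = u then conj (φ u) else 0) = conj (a c) := by
        rw [map_sum, ← Finset.sum_filter]
        exact Finset.sum_subtype _ (fun u => by simp [hKmem]) _
      rw [hca, hG c, ← ha c]
      ring
    rw [e]
    exact (IsIntegral.sum _ fun u _ => hφi u).mul (avg_orbit_sum ρ
      (fun u => (hφi u).map ((Complex.conjAe.toAlgHom).restrictScalars ℤ))
      (fun c u => by rw [hφinv]) hχ)
  · apply mul_right_cancel₀ (hfix0 c)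
    rw [show (Nat.card U : ℂ) * (Nat.card {u : U // ρ c u = u} : ℂ) =
      (∑ u, φ u) * conj (∑ u, φ u) * (Nat.card {u : U // ρ c u = u} : ℂ) by rw [hGG]]
    rw [hG c, map_mul]
    linear_combination (-(z c * conj (z c)) * (Nat.card {u : U // ρ c u = u} : ℂ)) * ha c
  · intro M hM c ⟨u, hu⟩ h
    have hR : p ∣ Fintype.card (R c) := by
      haveI : Nontrivial (R c) := ⟨⟨⟨ρ c u - u, u, by simp⟩, 0,
        fun e => hu (sub_eq_zero.mp (congrArg Subtype.val e))⟩⟩
      rw [← Nat.card_eq_fintype_card, Module.natCard_eq_pow_finrank (K := ZMod p), Nat.card_zmod]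
      exact dvd_pow_self p Module.finrank_pos.ne'
    have e : (⟨z c, h⟩ : AlgInt) = ∑ d : R c, ((⟨φ d, hφi d⟩ : AlgInt) - 1) +
        (Fintype.card (R c) : AlgInt) := by
      apply Subtype.ext
      push_cast
      simp [z, Finset.sum_sub_distrib]
    rw [e]
    refine M.add_mem (M.sum_mem fun d _ => root_sub_one_mem hM (Subtype.ext ?_)) ?_
    · simp [hφp]
    · obtain ⟨k, hk⟩ := hR
      rw [hk, Nat.cast_mul]
      exact M.mul_mem_right _ hM.2.2

end CfsgLib.Blocks.KGV
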