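/-
Weight functions from Heisenberg groups.
-/
import Cfsg.Agent.Lib.Blocks.KGV.Weight
import Cfsg.Agent.Lib.Blocks.KGV.CycRatio
import Cfsg.Agent.Lib.CharTheory.Gallagher
import Cfsg.Agent.Lib.CharTheory.PowerMap
import Cfsg.Agent.Lib.CharTheory.PrimeSeparation
import Mathlib.GroupTheory.SemidirectProduct
import Mathlib.LinearAlgebra.BilinearForm.Properties

namespace CfsgLib.Blocks.KGV

open Cfsg CfsgLib.CharTheory
open scoped ComplexConjugate

variable {p : ℕ} [hp : Fact p.Prime] {U : Type*} [AddCommGroup U] [Module (ZMod p) U]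

/-- The Heisenberg group of an alternating form. -/
@[ext] structure Heis (A : LinearMap.BilinForm (ZMod p) U) where
  /-- vector part -/
  u : U
  /-- central part -/
  z : ZMod p

namespace Heis

variable {A : LinearMap.BilinForm (ZMod p) U}

instance : Mul (Heis A) := ⟨fun a b => ⟨a.u + b.u, a.z + b.z + (2 : ZMod p)⁻¹ * A a.u b.u⟩⟩
instance : One (Heis A) := ⟨⟨0, 0⟩⟩
instance : Inv (Heis A) := ⟨fun a => ⟨-a.u, -a.z + (2 : ZMod p)⁻¹ * A a.u a.u⟩⟩

theorem mul_u (a b : Heis A) : (a * b).u = a.u + b.u := rfl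
theorem mul_z (a b : Heis A) : (a * b).z = a.z + b.z + (2 : ZMod p)⁻¹ * A a.u b.u := rfl
theorem one_u : (1 : Heis A).u = 0 := rfl
theorem one_z : (1 : Heis A).z = 0 := rfl
theorem inv_u (a : Heis A) : a⁻¹.u = -a.u := rfl
theorem inv_z (a : Heis A) : a⁻¹.z = -a.z + (2 : ZMod p)⁻¹ * A a.u a.u := rfl

instance : Group (Heis A) :=
  Group.ofLeftAxioms
    (fun a b c => by ext <;> simp [mul_u, mul_z, add_assoc, mul_add] <;> ring)
    (fun a => by ext <;> simp [mul_u, mul_z, one_u, one_z])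
    (fun a => by ext <;> simp [mul_u, mul_z, inv_u, inv_z, one_u, one_z])

/-- The underlying product. -/
def equivProd : Heis A ≃ U × ZMod p :=
  ⟨fun a => (a.u, a.z), fun x => ⟨x.1, x.2⟩, fun _ => rfl, fun _ => rfl⟩

instance [Finite U] : Finite (Heis A) := Finite.of_equiv _ equivProd.symm

theorem card [Finite U] : Nat.card (Heis A) = Nat.card U * p := by
  rw [Nat.card_congr equivProd, Nat.card_prod, Nat.card_zmod]

theorem center_mem (hA0 : ∀ x, A x x = 0) (k : ZMod p) :
    (⟨0, k⟩ : Heis A) ∈ Subgroup.center (Heis A) :=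
  Subgroup.mem_center_iff.mpr fun g => by ext <;> simp [mul_u, mul_z, add_comm]

theorem pow_z (k : ℕ) : (⟨0, 1⟩ : Heis A) ^ k = ⟨0, (k : ZMod p)⟩ := by
  induction k with
  | zero => rw [pow_zero]; ext <;> simp [one_u, one_z]
  | succ k ih => rw [pow_succ, ih]; ext <;> simp [mul_u, mul_z]

theorem pow_uz (hA0 : ∀ x, A x x = 0) (a : Heis A) (k : ℕ) :
    a ^ k = ⟨k • a.u, (k : ZMod p) * a.z⟩ := by
  induction k with
  | zero => rw [pow_zero]; ext <;> simp [one_u, one_z]
  | succ k ih =>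
    rw [pow_succ, ih]
    ext
    · simp [mul_u, succ_nsmul]
    · simp [mul_z, hA0]; ring

variable {C : Type*} [Group C] (ρ : Representation (ZMod p) C U)
  (hinv : ∀ c x y, A (ρ c x) (ρ c y) = A x y)

/-- The action on the Heisenberg group. -/
def autHom : C →* MulAut (Heis A) where
  toFun c :=
    { toFun := fun a => ⟨ρ c a.u, a.z⟩
      invFun := fun a => ⟨ρ c⁻¹ a.u, a.z⟩
      left_inv := fun a => by ext <;> simp [← Module.End.mul_apply, ← map_mul]
      right_inv := fun a => by ext <;> simp [← Module.End.mul_apply, ← map_mul]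
      map_mul' := fun a b => by ext <;> simp [mul_u, mul_z, hinv] }
  map_one' := by ext a <;> simp
  map_mul' a b := by ext x <;> simp

theorem autHom_apply (c : C) (a : Heis A) : autHom ρ hinv c a = ⟨ρ c a.u, a.z⟩ := rfl

end Heis

variable {C : Type*} [Group C] [Fintype C] [Fintype U]

theorem mul_cancel_mid {G : Type*} [Group G] (x y z t : G) :
    x * (y * t) * (t⁻¹ * z) = x * y * z := by group

/-- A faithful irreducible character of the Heisenberg group. -/
theorem exists_heis_char {A : LinearMap.BilinForm (ZMod p) U} (hp2 : p ≠ 2)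
    (hA0 : ∀ x, A x x = 0) (hnd : ∀ x, (∀ y, A x y = 0) → x = 0) :
    ∃ (χ : Heis A → ℂ) (s : ℂ), IsIrrCharacter (Heis A) χ ∧ IsPrimitiveRoot s p ∧
      (∀ k g, χ (⟨0, k⟩ * g) = s ^ k.val * χ g) ∧ (∀ a, a.u ≠ 0 → χ a = 0) ∧
      χ 1 * conj (χ 1) = (Nat.card U : ℂ) := by
  classical
  have := Fintype.ofFinite (Heis A)
  have hflip : ∀ x y, A y x = -A x y := fun x y => by
    have := hA0 (x + y)
    simp only [map_add, LinearMap.add_apply, hA0, zero_add, add_zero] at this
    linear_combination this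
  have h2 : (2 : ZMod p) ≠ 0 := by
    intro h
    have h' : ((2 : ℕ) : ZMod p) = 0 := by exact_mod_cast h
    rw [ZMod.natCast_eq_zero_iff] at h'
    exact hp2 ((Nat.prime_dvd_prime_iff_eq hp.out Nat.prime_two).mp h')
  obtain ⟨χ, hχ⟩ : ∃ χ : IrrCharacter (Heis A),
      (χ : Heis A → ℂ) ⟨0, 1⟩ ≠ (χ : Heis A → ℂ) 1 := by
    by_contra hno
    push Not at hno
    have h := isConj_iff.mp (isConj_of_forall_irr hno)
    obtain ⟨c, hc⟩ := h
    rw [Subgroup.mem_center_iff.mp (Heis.center_mem hA0 1) c, mul_inv_cancel_right] at hc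
    exact one_ne_zero (congrArg Heis.z hc)
  obtain ⟨s, -, hs⟩ := Knorr.exists_central_root χ.2 (Heis.center_mem (A := A) hA0 1)
  have hpow : ∀ (k : ℕ) g, (χ : Heis A → ℂ) ((⟨0, 1⟩ : Heis A) ^ k * g) =
      s ^ k * (χ : Heis A → ℂ) g := by
    intro k
    induction k with
    | zero => simp
    | succ k ih => intro g; rw [pow_succ', mul_assoc, hs, ih, pow_succ']; ring
  have hd := irr_ne_zero χ.2
  have hsp : s ^ p = 1 := by
    have := hpow p 1
    rw [Heis.pow_z, ZMod.natCast_self, mul_one] at this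
    exact (mul_eq_right₀ hd).mp this.symm
  have hs1 : s ≠ 1 := fun e => hχ (by simpa [e] using hs 1)
  have hprim : IsPrimitiveRoot s p :=
    IsPrimitiveRoot.iff_orderOf.mpr (orderOf_eq_prime hsp hs1)
  have hcent : ∀ k g, (χ : Heis A → ℂ) (⟨0, k⟩ * g) = s ^ k.val * (χ : Heis A → ℂ) g := by
    intro k g
    have := hpow k.val g
    rwa [Heis.pow_z, ZMod.natCast_zmod_val] at this
  have hoff : ∀ a : Heis A, a.u ≠ 0 → (χ : Heis A → ℂ) a = 0 := by
    intro a ha
    obtain ⟨y, hy⟩ : ∃ y, A y a.u ≠ 0 := by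
      by_contra hno
      push Not at hno
      exact ha (hnd a.u fun y => by rw [hflip y a.u, hno y, neg_zero])
    set w := (A y a.u)⁻¹ • y with hw
    have hwa : A w a.u = 1 := by simp [hw, hy]
    have e : (⟨w, 0⟩ : Heis A) * a * ⟨w, 0⟩⁻¹ = ⟨0, 1⟩ * a := by
      ext
      · simp [Heis.mul_u, Heis.inv_u]
      · simp only [Heis.mul_z, Heis.mul_u, Heis.inv_u, Heis.inv_z, map_add, map_neg,
          LinearMap.add_apply, hA0, hwa, hflip w a.u, map_zero, LinearMap.zero_apply]
        field_simp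
        ring
    have := isClassFunction_char (isCharacter_of_irr χ.2) a (⟨w, 0⟩ : Heis A)
    rw [e, hs] at this
    by_contra h0
    exact hs1 ((mul_eq_right₀ h0).mp this)
  refine ⟨χ, s, χ.2, hprim, hcent, hoff, ?_⟩
  have hself := classInner_irr_self χ.2
  rw [classInner, ← Fintype.sum_equiv Heis.equivProd.symm
    (fun x => (χ : Heis A → ℂ) (Heis.equivProd.symm x) * conj ((χ : Heis A → ℂ) (Heis.equivProd.symm x)))
    _ fun x => rfl, Fintype.sum_prod_type, Fintype.sum_eq_single (0 : U) (fun u hu => by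
      refine Finset.sum_eq_zero fun k _ => ?_
      rw [hoff _ hu, zero_mul])] at hself
  have hk : ∀ k : ZMod p, (χ : Heis A → ℂ) (Heis.equivProd.symm ((0 : U), k)) *
      conj ((χ : Heis A → ℂ) (Heis.equivProd.symm ((0 : U), k))) =
        (χ : Heis A → ℂ) 1 * conj ((χ : Heis A → ℂ) 1) := by
    intro k
    have := hcent k 1
    rw [mul_one] at this
    rw [show Heis.equivProd.symm ((0 : U), k) = (⟨0, k⟩ : Heis A) from rfl, this, map_mul]
    have h1 : s ^ k.val * conj (s ^ k.val) = 1 := by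
      rw [Complex.mul_conj, Complex.normSq_eq_norm_sq, norm_pow,
        Complex.norm_eq_one_of_pow_eq_one hsp hp.out.ne_zero]
      simp
    linear_combination ((χ : Heis A → ℂ) 1 * conj ((χ : Heis A → ℂ) 1)) * h1
  rw [Finset.sum_congr rfl fun k _ => hk k, Finset.sum_const, Finset.card_univ, ZMod.card,
    nsmul_eq_mul, Heis.card, Nat.cast_mul] at hself
  have hp0 : (p : ℂ) ≠ 0 := Nat.cast_ne_zero.mpr hp.out.ne_zero
  have hU0 : (Nat.card U : ℂ) ≠ 0 := Nat.cast_ne_zero.mpr Nat.card_pos.ne'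
  field_simp at hself
  linear_combination hself

/-- The weight attached to an invariant alternating nondegenerate form in odd characteristic. -/
theorem exists_weight_heis (hcop : (Nat.card C).Coprime p) (hp2 : p ≠ 2)
    (ρ : Representation (ZMod p) C U) (A : LinearMap.BilinForm (ZMod p) U)
    (hA0 : ∀ x, A x x = 0) (hinv : ∀ c x y, A (ρ c x) (ρ c y) = A x y)
    (hnd : ∀ x, (∀ y, A x y = 0) → x = 0) :
    ∃ θ, IsWeight ρ θ := by
  classical
  obtain ⟨χ, s, hχ, hprim, hcent, hoff, hdeg⟩ := exists_heis_char hp2 hA0 hnd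
  have hflip : ∀ x y, A y x = -A x y := fun x y => by
    have := hA0 (x + y)
    simp only [map_add, LinearMap.add_apply, hA0, zero_add, add_zero] at this
    linear_combination this
  have h2 : (2 : ZMod p) ≠ 0 := by
    intro h
    have h' : ((2 : ℕ) : ZMod p) = 0 := by exact_mod_cast h
    rw [ZMod.natCast_eq_zero_iff] at h'
    exact hp2 ((Nat.prime_dvd_prime_iff_eq hp.out Nat.prime_two).mp h')
  let f := Heis.autHom ρ hinv
  haveI := Fintype.ofFinite (Heis A)
  let X := Heis A ⋊[f] C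
  haveI : Finite X := Finite.of_equiv _ SemidirectProduct.equivProd.symm
  haveI := Fintype.ofFinite X
  let inl : Heis A →* X := SemidirectProduct.inl
  let inr : C →* X := SemidirectProduct.inr
  have hcomm : ∀ (c : C) (a : Heis A), inr c * inl a = inl (f c a) * inr c := fun c a => by
    rw [SemidirectProduct.inl_aut, map_inv, inv_mul_cancel_right]
  let K : Subgroup X := inl.range
  have hKker : K = SemidirectProduct.rightHom.ker := SemidirectProduct.range_inl_eq_ker_rightHom
  haveI : K.Normal := hKker ▸ MonoidHom.normal_ker _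
  haveI := Fintype.ofFinite K
  let eK : Heis A ≃* K := MonoidHom.ofInjective SemidirectProduct.inl_injective
  have hcardX : Nat.card X = Nat.card (Heis A) * Nat.card C := SemidirectProduct.card
  have hcardK : Nat.card K = Nat.card (Heis A) := (Nat.card_congr eK.toEquiv).symm
  have hKindex : K.index = Nat.card C := by
    have := K.card_mul_index
    rw [hcardX, hcardK] at this
    exact Nat.eq_of_mul_eq_mul_left Nat.card_pos this
  have hUpow : Nat.card U = p ^ Module.finrank (ZMod p) U := by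
    rw [Module.natCard_eq_pow_finrank (K := ZMod p), Nat.card_zmod]
  let θK : IrrCharacter K := ⟨fun k => χ (eK.symm k),
    isIrrCharacter_comp_surjective hχ eK.symm.toMonoidHom eK.symm.surjective⟩
  have hinvK : ∀ g : X, conjNormFun K g (θK : K → ℂ) = (θK : K → ℂ) := by
    intro g
    funext k
    obtain ⟨a, rfl⟩ := eK.surjective k
    have hga : (g * (eK a : X) * g⁻¹) =
        ((eK (g.left * f g.right a * g.left⁻¹) : K) : X) := by
      show g * inl a * g⁻¹ = inl (g.left * f g.right a * g.left⁻¹)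
      conv_lhs => rw [← SemidirectProduct.inl_left_mul_inr_right g]
      rw [mul_inv_rev, map_mul, map_mul, map_inv]
      show inl g.left * inr g.right * inl a * ((inr g.right)⁻¹ * (inl g.left)⁻¹) = _
      rw [mul_assoc (inl g.left) (inr g.right), hcomm]
      exact mul_cancel_mid _ _ _ _
    show χ (eK.symm ⟨_, _⟩) = χ (eK.symm (eK a))
    rw [show (⟨g * (eK a : X) * g⁻¹, _⟩ : K) = eK (g.left * f g.right a * g.left⁻¹)
      from Subtype.ext hga, MulEquiv.symm_apply_apply, MulEquiv.symm_apply_apply,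
      isClassFunction_char (isCharacter_of_irr hχ) (f g.right a) g.left]
    show χ ⟨ρ g.right a.u, a.z⟩ = χ a
    by_cases ha : a.u = 0
    · rw [ha, map_zero, ← ha]
    · rw [hoff a ha, hoff]
      exact fun e => ha (by simpa [rep_inv_apply] using congrArg (ρ g.right⁻¹) e)
  obtain ⟨Χ, hΧ, hext⟩ := PrimeSep.exists_extension_coprime K (by
    rw [hcardK, hKindex, Heis.card, hUpow, ← pow_succ]
    exact hcop.symm.pow_left _) θK hinvK
  have hval : ∀ a, Χ (inl a) = χ a := fun a => by
    rw [show inl a = ((eK a : K) : X) from rfl, hext]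
    show χ (eK.symm (eK a)) = χ a
    rw [MulEquiv.symm_apply_apply]
  have hres : IsIrrCharacter K (fun k : K => Χ k) := by
    rw [funext hext]; exact θK.2
  have hΧc := isCharacter_of_irr hΧ
  have hzc : ∀ k : ZMod p, inl (⟨0, k⟩ : Heis A) ∈ Subgroup.center X := by
    intro k
    refine Subgroup.mem_center_iff.mpr fun g => ?_
    rw [← SemidirectProduct.inl_left_mul_inr_right g]
    show inl g.left * inr g.right * inl ⟨0, k⟩ = inl ⟨0, k⟩ * (inl g.left * inr g.right)
    rw [mul_assoc, hcomm, show f g.right ⟨0, k⟩ = (⟨0, k⟩ : Heis A) by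
        simp [f, Heis.autHom_apply], ← mul_assoc, ← map_mul,
      Subgroup.mem_center_iff.mp (Heis.center_mem hA0 k) g.left, map_mul, mul_assoc]
  have hd : χ 1 ≠ 0 := irr_ne_zero hχ
  have hscal : ∀ (k : ZMod p) (g : X), Χ (inl ⟨0, k⟩ * g) = s ^ k.val * Χ g := by
    intro k g
    obtain ⟨t, -, ht⟩ := Knorr.exists_central_root hΧ (hzc k)
    have h1 := ht 1
    have h2 := hcent k 1
    rw [mul_one] at h2
    rw [mul_one, hval, h2, ← map_one inl, hval] at h1
    rw [ht, mul_right_cancel₀ hd h1.symm]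
  -- the values on the cosets
  let w : C → ℂ := fun c => Χ (inr c)
  let R : C → Submodule (ZMod p) U := fun c => LinearMap.range (ρ c - 1)
  have horth : ∀ c, ∀ x, ρ c x = x → ∀ y ∈ R c, A x y = 0 := by
    rintro c x hx y ⟨u, rfl⟩
    simp only [LinearMap.sub_apply, Module.End.one_apply, map_sub]
    nth_rw 1 [← hx]
    rw [hinv, sub_self]
  have hbij := fix_range_bijective hcop ρ
  have hrange : ∀ c u, u ∈ R c → ∀ z, ∃ k : ℕ, Χ (inl ⟨u, z⟩ * inr c) = s ^ k * w c := by
    rintro c u ⟨x, hx⟩ z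
    set w' := -x with hw'
    have hu : u = w' - ρ c w' := by rw [← hx, hw']; simp; abel
    refine ⟨(z + (2 : ZMod p)⁻¹ * A w' (ρ c w')).val, ?_⟩
    rw [← hscal]
    have e : inl ⟨u, z⟩ * inr c = inl ⟨w', 0⟩ *
        (inl ⟨0, z + (2 : ZMod p)⁻¹ * A w' (ρ c w')⟩ * inr c) * (inl ⟨w', 0⟩)⁻¹ := by
      rw [← map_inv inl, mul_assoc (inl ⟨w', 0⟩), mul_assoc (inl ⟨0, _⟩), hcomm, ← mul_assoc,
        ← mul_assoc, ← map_mul, ← map_mul]
      congr 2
      rw [show f c (⟨w', 0⟩⁻¹ : Heis A) = ⟨-(ρ c w'), (⟨w', 0⟩⁻¹ : Heis A).z⟩ by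
        rw [Heis.autHom_apply, Heis.inv_u, map_neg]]
      ext
      · simp [Heis.mul_u, hu, sub_eq_add_neg]
      · simp [Heis.mul_z, Heis.mul_u, Heis.inv_z, hA0]
    rw [e]
    exact isClassFunction_char hΧc _ _
  have hvanish : ∀ c u, u ∉ R c → ∀ z, Χ (inl ⟨u, z⟩ * inr c) = 0 := by
    intro c u hu z
    obtain ⟨⟨⟨x, hx⟩, ⟨y, hy⟩⟩, rfl⟩ := (hbij c).2 u
    simp only at hu ⊢
    have hxc : ρ c x = x := by simpa [sub_eq_zero] using hx
    have hx0 : x ≠ 0 := fun e => hu (by rw [e, zero_add]; exact hy)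
    obtain ⟨x', hx', hne⟩ : ∃ x', ρ c x' = x' ∧ A x' x ≠ 0 := by
      by_contra hno
      push Not at hno
      refine hx0 (hnd x fun u => ?_)
      obtain ⟨⟨⟨a, ha⟩, ⟨b, hb⟩⟩, rfl⟩ := (hbij c).2 u
      simp only [map_add]
      rw [horth c x hxc b hb, hflip a x, hno a (by simpa [sub_eq_zero] using ha), neg_zero,
        add_zero]
    set k := A x' x with hk
    have hkne : s ^ k.val ≠ 1 := hprim.pow_ne_one_of_pos_of_lt
      (by simpa [ZMod.val_eq_zero] using hne) k.val_lt
    have e : inl ⟨x', 0⟩ * (inl ⟨x + y, z⟩ * inr c) * (inl ⟨x', 0⟩)⁻¹ =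
        inl ⟨0, k⟩ * (inl ⟨x + y, z⟩ * inr c) := by
      rw [← map_inv inl, mul_assoc (inl ⟨x', 0⟩), mul_assoc (inl ⟨x + y, z⟩), hcomm, ← mul_assoc,
        ← mul_assoc, ← mul_assoc, ← map_mul, ← map_mul, ← map_mul]
      congr 2
      rw [show f c (⟨x', 0⟩⁻¹ : Heis A) = ⟨-x', (⟨x', 0⟩⁻¹ : Heis A).z⟩ by
        rw [Heis.autHom_apply, Heis.inv_u, map_neg, hx']]
      ext
      · simp [Heis.mul_u]
      · simp only [Heis.mul_z, Heis.mul_u, Heis.inv_z, hA0, map_add, map_neg, map_zero,
          LinearMap.add_apply, LinearMap.zero_apply, hflip x' x, hflip x' y,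
          horth c x' hx' y hy, ← hk]
        field_simp
        ring
    have := isClassFunction_char hΧc (inl ⟨x + y, z⟩ * inr c) (inl ⟨x', 0⟩)
    rw [e, hscal] at this
    by_contra h0
    exact hkne ((mul_eq_right₀ h0).mp this)
  have hsn : ∀ k : ℕ, s ^ k * conj (s ^ k) = 1 := fun k => by
    rw [Complex.mul_conj, Complex.normSq_eq_norm_sq, norm_pow,
      Complex.norm_eq_one_of_pow_eq_one hprim.pow_eq_one hp.out.ne_zero]
    simp
  have hwnorm : ∀ c, w c * conj (w c) = (Nat.card {u : U // ρ c u = u} : ℂ) := by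
    intro c
    have h1 := congrFun (cosetAvg_mul_conj K hΧ hres) (inr c)
    simp only [cosetAvg] at h1
    rw [inv_mul_eq_iff_eq_mul₀ (Nat.cast_ne_zero.mpr Nat.card_pos.ne'), mul_one,
      ← Fintype.sum_equiv ((Heis.equivProd (A := A)).symm.trans eK.toEquiv)
        (fun x => Χ (inl ⟨x.1, x.2⟩ * inr c) * conj (Χ (inl ⟨x.1, x.2⟩ * inr c))) _ fun x => rfl,
      Fintype.sum_prod_type] at h1
    have h2 : ∀ u : U, ∑ z : ZMod p, Χ (inl ⟨u, z⟩ * inr c) * conj (Χ (inl ⟨u, z⟩ * inr c)) =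
        if u ∈ R c then (p : ℂ) * (w c * conj (w c)) else 0 := by
      intro u
      split_ifs with hu
      · have hz : ∀ z : ZMod p, Χ (inl ⟨u, z⟩ * inr c) * conj (Χ (inl ⟨u, z⟩ * inr c)) =
            w c * conj (w c) := by
          intro z
          obtain ⟨k, hk⟩ := hrange c u hu z
          rw [hk, map_mul]
          linear_combination (w c * conj (w c)) * hsn k
        rw [Finset.sum_congr rfl fun z _ => hz z, Finset.sum_const, Finset.card_univ, ZMod.card,
          nsmul_eq_mul]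
      · exact Finset.sum_eq_zero fun z _ => by rw [hvanish c u hu z, zero_mul]
    rw [Finset.sum_congr rfl fun u _ => h2 u, ← Finset.sum_filter, Finset.sum_const, nsmul_eq_mul,
      hcardK, Heis.card] at h1
    have h3 : Nat.card U = Nat.card {u : U // ρ c u = u} *
        (Finset.univ.filter fun u => u ∈ R c).card := by
      rw [← Fintype.card_subtype, ← Nat.card_eq_fintype_card,
        ← Nat.card_congr (Equiv.ofBijective _ (hbij c)), Nat.card_prod]
      congr 1
      exact Nat.card_congr (Equiv.subtypeEquivRight fun u => by simp [sub_eq_zero])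
    push_cast [h3] at h1
    have hR0 : ((Finset.univ.filter fun u => u ∈ R c).card : ℂ) ≠ 0 :=
      Nat.cast_ne_zero.mpr (Finset.card_pos.mpr
        ⟨0, Finset.mem_filter.mpr ⟨Finset.mem_univ _, zero_mem _⟩⟩).ne'
    apply mul_left_cancel₀ (mul_ne_zero hR0 (Nat.cast_ne_zero.mpr hp.out.ne_zero))
    linear_combination h1
  have hwc : IsCharacter C w := isCharacter_comp hΧc inr
  have hwi : ∀ c, IsIntegral ℤ (w c) := fun c => isIntegral_of_char hΧc _
  have hpi : IsIntegral ℤ (p : ℂ) := by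
    simpa using (isIntegral_algebraMap (R := ℤ) (A := ℂ) (x := (p : ℤ)))
  set N := Nat.card X with hN
  have hNp : p ∣ N := by
    rw [hcardX, Heis.card]
    exact (dvd_mul_left p _).mul_right _
  -- powers of the values lie in the field of `p`-th roots of unity
  have hfix : ∀ m : ℕ, m.Coprime N → m ≡ 1 [MOD p] → ∀ x, Χ (x ^ m) ^ N = Χ x ^ N := by
    intro m hm hm1 x
    have hψ := CfsgLib.CharTheory.isIrrCharacter_pow hΧ hm
    have hresψ : (fun k : K => Χ ((k : X) ^ m)) = fun k : K => Χ k := by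
      funext k
      obtain ⟨a, rfl⟩ := eK.surjective k
      show Χ (inl a ^ m) = Χ (inl a)
      rw [← map_pow, hval, hval, Heis.pow_uz hA0]
      have hm' : (m : ZMod p) = 1 := by
        rw [← Nat.cast_one, ZMod.natCast_eq_natCast_iff]; exact hm1
      rw [hm', one_mul, ← Nat.cast_smul_eq_nsmul (ZMod p), hm', one_smul]
    obtain ⟨-, -, hgal⟩ := gallagher K hΧc hres
    obtain ⟨β, hβ, hβK, hβe⟩ := hgal _ hψ (by
      rw [hresψ, classInner_irr_self hres]; exact one_ne_zero)
    have hβ1 : β 1 = 1 := by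
      have := congrFun hβe 1
      rw [Pi.mul_apply, one_pow] at this
      exact (mul_eq_right₀ (irr_ne_zero hΧ)).mp this.symm
    obtain ⟨φ, rfl⟩ := exists_hom_of_degree_one (isCharacter_of_irr hβ) hβ1
    have := congrFun hβe x
    simp only [Pi.mul_apply] at this
    rw [this, mul_pow, ← Units.val_pow_eq_pow_val, ← map_pow, hN, pow_card_eq_one', map_one,
      Units.val_one, one_mul]
  have hyF : ∀ c, w c ^ N ∈ rootField p := by
    intro c
    have hchar : ∀ k : ℕ, IsCharacter X (fun x => Χ x ^ k) := by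
      intro k
      induction k with
      | zero => simpa using isCharacter_one (G := X)
      | succ k ih =>
        convert isCharacter_mul ih hΧc using 1
        funext x
        simp [pow_succ]
    exact mem_rootField_of_fixed (hchar N) (inr c) hNp fun m hm hm1 => hfix m hm hm1 _
  -- the weight
  let e := Module.finrank (ZMod p) U
  let fc : C → ℕ := fun c => Module.finrank (ZMod p) (LinearMap.ker (ρ c - 1))
  have hfc : ∀ c, Nat.card {u : U // ρ c u = u} = p ^ fc c := by
    intro c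
    rw [Nat.card_congr (Equiv.subtypeEquivRight fun u =>
      (by simp [sub_eq_zero] : ρ c u = u ↔ u ∈ LinearMap.ker (ρ c - 1))),
      Module.natCard_eq_pow_finrank (K := ZMod p), Nat.card_zmod]
  obtain ⟨d, hdd⟩ : ∃ d : ℕ, χ 1 = d := char_one_eq_natCast (isCharacter_of_irr hχ)
  have hd2 : (d : ℂ) ^ 2 = (p : ℂ) ^ e := by
    rw [hdd, map_natCast, hUpow, Nat.cast_pow] at hdeg
    rw [sq]; exact hdeg
  let θ : C → ℂ := fun c => (d : ℂ) * conj (w c) / (Nat.card {u : U // ρ c u = u} : ℂ)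
  have hπ0 : ∀ c, (Nat.card {u : U // ρ c u = u} : ℂ) ≠ 0 := fun c => by
    rw [hfc c]; exact Nat.cast_ne_zero.mpr (pow_ne_zero _ hp.out.ne_zero)
  have hθpow : ∀ c, θ c ^ (2 * N) =
      (p : ℂ) ^ ((e - fc c) * N) * (conj (w c ^ N) / w c ^ N) := by
    intro c
    have hle : fc c ≤ e := Submodule.finrank_le _
    have hw0 : w c ≠ 0 := fun e0 => hπ0 c (by rw [← hwnorm c, e0, zero_mul])
    have hww : w c * conj (w c) = (p : ℂ) ^ fc c := by rw [hwnorm c, hfc c, Nat.cast_pow]
    have hsq : θ c ^ 2 = (p : ℂ) ^ (e - fc c) * (conj (w c) / w c) := by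
      have hpf : (p : ℂ) ^ fc c ≠ 0 := pow_ne_zero _ (Nat.cast_ne_zero.mpr hp.out.ne_zero)
      have hpe : (p : ℂ) ^ e = (p : ℂ) ^ (e - fc c) * (p : ℂ) ^ fc c := by
        rw [← pow_add, Nat.sub_add_cancel hle]
      simp only [θ, hfc c, Nat.cast_pow]
      field_simp
      linear_combination (conj (w c) ^ 2 * w c) * (hd2.trans hpe) +
        ((p : ℂ) ^ (e - fc c) * (p : ℂ) ^ fc c * conj (w c)) * hww
    rw [pow_mul, hsq, mul_pow, ← pow_mul, map_pow, div_pow]
  have hratio : ∀ c, IsIntegral ℤ (conj (w c ^ N) / w c ^ N) := fun c => by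
    refine isIntegral_conj_div (hyF c) ((hwi c).pow N) (m := fc c * N) ?_
    rw [map_pow, ← mul_pow, hwnorm c, hfc c, Nat.cast_pow, pow_mul]
  have hθi : ∀ c, IsIntegral ℤ (θ c) := fun c =>
    IsIntegral.of_pow (n := 2 * N) (Nat.mul_pos two_pos Nat.card_pos)
      (by rw [hθpow c]; exact (hpi.pow _).mul (hratio c))
  have hwcl := isClassFunction_char hwc
  have hπcl := isClassFunction_char (isCharacter_card_fix ρ)
  refine ⟨θ, fun g h => ?_, ⟨N, Nat.card_pos.ne', fun c => ?_⟩, hθi, ?_, fun ξ hξ => ?_,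
    fun c => ?_, ?_⟩
  · simp only [θ]
    rw [hwcl g h, show (Nat.card {u : U // ρ (h * g * h⁻¹) u = u} : ℂ) =
      (Nat.card {u : U // ρ g u = u} : ℂ) from hπcl g h]
  · refine div_mem (mul_mem (natCast_mem _ _) ?_) (natCast_mem _ _)
    exact char_mem_rootField (isCharacter_conj hΧc) (inr c)
  · have hfull : Nat.card {u : U // ρ 1 u = u} = Nat.card U :=
      Nat.card_congr (Equiv.subtypeUnivEquiv fun u => by simp)
    simp only [θ, w]
    rw [hfull, map_one inr, ← map_one inl, hval, hdd, map_natCast, ← sq, hd2, hUpow, Nat.cast_pow,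
      div_self (pow_ne_zero _ (Nat.cast_ne_zero.mpr hp.out.ne_zero))]
  · refine avg_of_mul_fix hcop ρ hθi (fun ξ hξ => ?_) hξ
    have hmul := isCharacter_mul (isCharacter_conj hwc) hξ
    obtain ⟨k, hk⟩ := (isCharacter_iff_coeff_nat.mp hmul).2 (fun _ => 1) isIrrCharacter_one
    have e1 : (Fintype.card C : ℂ)⁻¹ *
        ∑ c, θ c * (Nat.card {u : U // ρ c u = u} : ℂ) * ξ c = (d : ℂ) * k := by
      rw [← hk, classInner, Nat.card_eq_fintype_card, ← mul_assoc, mul_comm (d : ℂ), mul_assoc,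
        Finset.mul_sum Finset.univ _ (d : ℂ)]
      congr 1
      refine Finset.sum_congr rfl fun c _ => ?_
      simp only [θ, Pi.mul_apply, map_one, mul_one]
      rw [div_mul_cancel₀ _ (hπ0 c)]
      ring
    rw [e1, ← Nat.cast_mul]
    simpa using (isIntegral_algebraMap (R := ℤ) (A := ℂ) (x := ((d * k : ℕ) : ℤ)))
  · simp only [θ, map_div₀, map_mul, map_natCast, Complex.conj_conj]
    rw [hUpow, Nat.cast_pow, ← hd2]
    rw [div_mul_div_comm, div_mul_eq_mul_div, div_eq_iff (mul_ne_zero (hπ0 c) (hπ0 c))]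
    linear_combination ((d : ℂ) ^ 2 * (Nat.card {u : U // ρ c u = u} : ℂ)) * hwnorm c
  · intro M hM c ⟨u, hu⟩ h
    have hlt : fc c < e := Submodule.finrank_lt fun e0 => hu (by
      have : u ∈ LinearMap.ker (ρ c - 1) := e0 ▸ Submodule.mem_top
      simpa [sub_eq_zero] using this)
    refine hM.2.1.isPrime.mem_of_pow_mem (2 * N) ?_
    obtain ⟨k, hk⟩ : ∃ k, (e - fc c) * N = k + 1 :=
      ⟨(e - fc c) * N - 1, (Nat.succ_pred_eq_of_pos
        (Nat.mul_pos (Nat.sub_pos_of_lt hlt) Nat.card_pos)).symm⟩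
    have e2 : (⟨θ c, h⟩ : AlgInt) ^ (2 * N) = (p : AlgInt) *
        ((p : AlgInt) ^ k * ⟨conj (w c ^ N) / w c ^ N, hratio c⟩) := by
      apply Subtype.ext
      push_cast
      rw [hθpow c, hk, pow_succ]
      ring
    rw [e2]
    exact M.mul_mem_right _ hM.2.2

end CfsgLib.Blocks.KGV
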