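/-
The real-vector criterion for the class number of coprime semidirect products.
-/
import Cfsg.Agent.Lib.Blocks.KGV.Heisenberg
import Cfsg.Agent.Lib.Blocks.KGV.Gauss
import Cfsg.Agent.Lib.Blocks.Vanishing
import Cfsg.Agent.Lib.SelfDualSplit
import Mathlib.LinearAlgebra.Matrix.BilinearForm
import Mathlib.Algebra.Module.ZMod

namespace CfsgLib.Blocks.KGV

open Cfsg CfsgLib.CharTheory CfsgLib.SelfDualSplit
open scoped ComplexConjugate

variable {p : ℕ} [hp : Fact p.Prime] {C : Type*} [Group C] [Fintype C]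
variable {U : Type*} [AddCommGroup U] [Fintype U] [Module (ZMod p) U]

/-- The action on an invariant subspace. -/
def subRep (ρ : Representation (ZMod p) C U) (Y : Submodule (ZMod p) U) (hY : Inv ρ Y) :
    Representation (ZMod p) C Y where
  toFun c := (ρ c).restrict (fun y hy => hY c y hy)
  map_one' := by ext y; simp
  map_mul' a b := by ext y; simp

theorem subRep_coe (ρ : Representation (ZMod p) C U) (Y : Submodule (ZMod p) U) (hY : Inv ρ Y)
    (c : C) (y : Y) : (subRep ρ Y hY c y : U) = ρ c y := rfl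

/-- Weights on complementary invariant subspaces combine. -/
theorem weight_of_compl (ρ : Representation (ZMod p) C U) {Y Z : Submodule (ZMod p) U}
    (hY : Inv ρ Y) (hZ : Inv ρ Z) (hinf : Y ⊓ Z = ⊥) (hsup : Y ⊔ Z = ⊤)
    {θ θ' : C → ℂ} (hθ : IsWeight (subRep ρ Y hY) θ) (hθ' : IsWeight (subRep ρ Z hZ) θ') :
    IsWeight ρ (θ * θ') := by
  have hbij : Function.Bijective (fun x : Y × Z => (x.1 : U) + (x.2 : U)) := by
    refine ⟨?_, fun u => ?_⟩
    · rintro ⟨⟨a, ha⟩, ⟨b, hb⟩⟩ ⟨⟨a', ha'⟩, ⟨b', hb'⟩⟩ h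
      simp only at h
      have e : a - a' = b' - b := by rw [sub_eq_sub_iff_add_eq_add, h, add_comm]
      have h0 : a - a' ∈ Y ⊓ Z := ⟨Y.sub_mem ha ha', e ▸ Z.sub_mem hb' hb⟩
      rw [hinf, Submodule.mem_bot, sub_eq_zero] at h0
      subst h0
      obtain rfl := add_left_cancel h
      rfl
    · obtain ⟨a, ha, b, hb, e⟩ := Submodule.mem_sup.mp (hsup.ge (Submodule.mem_top (x := u)))
      exact ⟨(⟨a, ha⟩, ⟨b, hb⟩), e⟩
  exact hθ.mul hθ' (Equiv.ofBijective _ hbij) fun c x => by
    simp [Equiv.ofBijective_apply, subRep_coe]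

/-- A nondegenerate quadratic map with invariant polar form gives a weight. -/
theorem weight_of_quadratic (hcop : (Nat.card C).Coprime p) (ρ : Representation (ZMod p) C U)
    (Q : U → ZMod p) (B : U → U → ZMod p) (hQ : ∀ x y, Q (x + y) = Q x + Q y + B x y)
    (hB : ∀ x x' y, B (x + x') y = B x y + B x' y) (hs : ∀ x y, B x y = B y x)
    (hQi : ∀ c u, Q (ρ c u) = Q u) (hBi : ∀ c x y, B (ρ c x) (ρ c y) = B x y)
    (hnd : ∀ x, (∀ y, B x y = 0) → x = 0) : ∃ θ, IsWeight ρ θ := by
  set ζ := Complex.exp (2 * Real.pi * Complex.I / p)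
  have hζ : IsPrimitiveRoot ζ p := isPrimitiveRoot_exp' hp.out.ne_zero
  have hadd : ∀ a b : ZMod p, ζ ^ (a + b).val = ζ ^ a.val * ζ ^ b.val := fun a b => by
    rw [ZMod.val_add, ← pow_eq_pow_mod _ hζ.pow_eq_one, pow_add]
  refine exists_weight_gauss hcop ρ (fun u => ζ ^ (Q u).val) (fun x y => ζ ^ (B x y).val)
    (fun u => ?_) (fun x y => ?_) (fun x x' y => ?_) (fun x y => by rw [hs])
    (fun c u => by rw [hQi]) (fun c x y => by rw [hBi]) fun x h => hnd x fun y => ?_
  · rw [← pow_mul, mul_comm, pow_mul, hζ.pow_eq_one, one_pow]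
  · rw [hQ, hadd, hadd]
  · rw [hB, hadd]
  · by_contra hne
    exact hζ.pow_ne_one_of_pos_of_lt (by simpa [ZMod.val_eq_zero] using hne) (ZMod.val_lt _) (h y)

/-- An alternating form over `𝔽₂` invariant under an odd group has an invariant quadratic form. -/
theorem exists_quadratic {C : Type*} [Group C] [Fintype C] {U : Type*} [AddCommGroup U] [Fintype U]
    [Module (ZMod 2) U] (hodd : Odd (Nat.card C)) (ρ : Representation (ZMod 2) C U)
    (B : LinearMap.BilinForm (ZMod 2) U) (h0 : ∀ x, B x x = 0)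
    (hi : ∀ c x y, B (ρ c x) (ρ c y) = B x y) :
    ∃ Q : U → ZMod 2, (∀ x y, Q (x + y) = Q x + Q y + B x y) ∧ ∀ c u, Q (ρ c u) = Q u := by
  classical
  have hs : ∀ x y, B y x = B x y := fun x y => by
    have h := h0 (x + y)
    simp only [map_add, LinearMap.add_apply, h0, zero_add, add_zero] at h
    rw [← ZMod.neg_eq_self_mod_two (B x y)]
    linear_combination h
  let e := Module.finBasis (ZMod 2) U
  let T : LinearMap.BilinForm (ZMod 2) U :=
    Matrix.toBilin e (Matrix.of fun i j => if i < j then B (e i) (e j) else 0)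
  have hT : ∀ x y, T x y + T y x = B x y := by
    intro x y
    have : T + T.flip = B := LinearMap.BilinForm.ext_basis e fun i j => by
      have hT0 : ∀ a b, T (e a) (e b) = if a < b then B (e a) (e b) else 0 := fun a b => by
        have h' := congrFun (congrFun (BilinForm.toMatrix_toBilin e
          (Matrix.of fun i j => if i < j then B (e i) (e j) else 0)) a) b
        rw [BilinForm.toMatrix_apply] at h'
        simpa [T] using h'
      simp only [LinearMap.add_apply, LinearMap.BilinForm.flip_apply, LinearMap.flip_apply, hT0]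
      rcases lt_trichotomy i j with h | rfl | h
      · simp [h, not_lt.mpr h.le]
      · simp [h0]
      · simp [h, not_lt.mpr h.le, hs (e i) (e j)]
    have h := congrArg (fun S : LinearMap.BilinForm (ZMod 2) U => S x y) this
    simpa using h
  refine ⟨fun u => ∑ g : C, T (ρ g u) (ρ g u), fun x y => ?_, fun c u => ?_⟩
  · have hC1 : (Fintype.card C : ZMod 2) = 1 := by
      rw [ZMod.natCast_eq_one_iff_odd, ← Nat.card_eq_fintype_card]
      exact hodd
    have hterm : ∀ g : C, T (ρ g (x + y)) (ρ g (x + y)) =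
        T (ρ g x) (ρ g x) + T (ρ g y) (ρ g y) + B x y := fun g => by
      rw [← hi g x y, ← hT]
      simp only [map_add, LinearMap.add_apply]
      ring
    simp only [hterm, Finset.sum_add_distrib, Finset.sum_const, Finset.card_univ, nsmul_eq_mul,
      hC1, one_mul]
  · refine Fintype.sum_equiv (Equiv.mulRight c) _ _ fun g => ?_
    simp [rep_mul_apply]

/-- A self-dual module has a weight, odd characteristic. -/
theorem exists_weight_odd (hcop : (Nat.card C).Coprime p) (hp2 : p ≠ 2)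
    (ρ : Representation (ZMod p) C U) (B : LinearMap.BilinForm (ZMod p) U)
    (hBi : InvForm ρ B ⊤) (hBn : NDeg B ⊤) : ∃ θ, IsWeight ρ θ := by
  classical
  have hcop' : (Nat.card C : ZMod p) ≠ 0 := by
    rw [Ne, ZMod.natCast_eq_zero_iff]
    exact hp.out.coprime_iff_not_dvd.mp hcop.symm
  have h2 : (2 : ZMod p) ≠ 0 := by
    intro h
    have h' : ((2 : ℕ) : ZMod p) = 0 := by exact_mod_cast h
    rw [ZMod.natCast_eq_zero_iff] at h'
    exact hp2 ((Nat.prime_dvd_prime_iff_eq hp.out Nat.prime_two).mp h')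
  obtain ⟨P, W, hP, hW, hinf, hsup, ⟨A, hA0, hAi, hAn⟩, S, hSs, hSi, hSn⟩ :=
    split_aux ρ hcop' _ ⊤ rfl (fun _ _ _ => Submodule.mem_top) B hBi hBn
  haveI := Fintype.ofFinite P
  haveI := Fintype.ofFinite W
  obtain ⟨θ, hθ⟩ := exists_weight_heis hcop hp2 (subRep ρ P hP)
    (A.compl₁₂ P.subtype P.subtype) (fun x => hA0 _)
    (fun c x y => hAi c _ x.2 _ y.2)
    (fun x hx => Subtype.ext (hAn _ x.2 fun y hy => hx ⟨y, hy⟩))
  obtain ⟨θ', hθ'⟩ := weight_of_quadratic hcop (subRep ρ W hW) (fun x => S x x)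
    (fun x y => 2 * S x y)
    (fun x y => by
      simp only [Submodule.coe_add, map_add, LinearMap.add_apply, hSs (y : U) x]; ring)
    (fun x x' y => by simp only [Submodule.coe_add, map_add, LinearMap.add_apply]; ring)
    (fun x y => by rw [hSs]) (fun c u => hSi c _ u.2 _ u.2)
    (fun c x y => by simp only [subRep_coe]; rw [hSi c _ x.2 _ y.2])
    (fun x hx => Subtype.ext (hSn _ x.2 fun y hy => (mul_eq_zero.mp (hx ⟨y, hy⟩)).resolve_left h2))
  exact ⟨θ * θ', weight_of_compl ρ hP hW hinf hsup hθ hθ'⟩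

/-- A self-dual module has a weight, characteristic two. -/
theorem exists_weight_two {C : Type*} [Group C] [Fintype C] {U : Type*} [AddCommGroup U] [Fintype U]
    [Module (ZMod 2) U] (hcop : (Nat.card C).Coprime 2) (ρ : Representation (ZMod 2) C U)
    (B : LinearMap.BilinForm (ZMod 2) U) (hBi : InvForm ρ B ⊤) (hBn : NDeg B ⊤) :
    ∃ θ, IsWeight ρ θ := by
  classical
  haveI : Fact (Nat.Prime 2) := ⟨Nat.prime_two⟩
  have hcop' : (Nat.card C : ZMod 2) ≠ 0 := by
    rw [Ne, ZMod.natCast_eq_zero_iff]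
    exact Nat.prime_two.coprime_iff_not_dvd.mp hcop.symm
  let T : Submodule (ZMod 2) U :=
    { carrier := {u | ∀ c, ρ c u = u}
      add_mem' := fun {a b} ha hb c => by rw [map_add, ha c, hb c]
      zero_mem' := fun c => map_zero _
      smul_mem' := fun r a ha c => by rw [map_smul, ha c] }
  have hT : Inv ρ T := fun g x hx c => by rw [hx g, hx c]
  obtain ⟨Mv, hMv, -, hinf, hsup⟩ := exists_compl ρ hcop' hT (X := ⊤)
    (fun _ _ _ => Submodule.mem_top) le_top
  have hMfix : ∀ w ∈ Mv, (∀ g, ρ g w = w) → w = 0 := fun w hw h => by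
    have h' : w ∈ T ⊓ Mv := ⟨h, hw⟩
    rwa [hinf, Submodule.mem_bot] at h'
  have horth : ∀ x ∈ Mv, ∀ t ∈ T, B x t = 0 := by
    intro x hx t ht
    have hC1 : (Fintype.card C : ZMod 2) = 1 := by
      rw [ZMod.natCast_eq_one_iff_odd, ← Nat.card_eq_fintype_card]
      exact (Nat.coprime_two_right.mp hcop)
    have hsum : ∑ g : C, ρ g x = 0 := hMfix _ (Mv.sum_mem fun g _ => hMv g x hx) fun h => by
      rw [map_sum]
      exact Fintype.sum_equiv (Equiv.mulLeft h) _ _ fun g => by simp [rep_mul_apply]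
    have h1 : ∀ g : C, B (ρ g x) t = B x t := fun g => by
      conv_lhs => rw [← ht g]
      exact hBi g x Submodule.mem_top t Submodule.mem_top
    have := congrArg (fun z => B z t) hsum
    simpa [h1, hC1] using this
  have hMn : NDeg B Mv := fun x hx h => hBn x Submodule.mem_top fun y _ => by
    obtain ⟨t, ht, m, hm, rfl⟩ := Submodule.mem_sup.mp (hsup.ge (Submodule.mem_top (x := y)))
    rw [map_add, horth x hx t ht, h m hm, add_zero]
  obtain ⟨P, W, hP, hW, hPW, hPWs, ⟨A, hA0, hAi, hAn⟩, S, hSs, hSi, hSn⟩ :=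
    split_aux ρ hcop' _ Mv rfl hMv B (fun g x _ y _ => hBi g x Submodule.mem_top y Submodule.mem_top)
      hMn
  have hSa := alternating_of_symm ρ hcop' (by decide) hW
    (fun w hw => hMfix w (hPWs ▸ Submodule.mem_sup_right hw)) hSs hSi
  obtain ⟨π, hπW, -, hπm, hπc⟩ := exists_proj ρ hcop' hW (Z := ⊥)
    (fun g z hz => by simp_all) (inf_bot_eq _)
  obtain ⟨F, hFi, hFn, hF0, -⟩ := combine ρ hcop' hP hW hPW A (S.compl₁₂ π π) hAi
    (fun g x hx y hy => by
      simp only [LinearMap.compl₁₂_apply, hπc, hSi g _ (hπm x) _ (hπm y)])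
    hAn (fun x hx h => hSn x hx fun y hy => by simpa [hπW x hx, hπW y hy] using h y hy)
  have hF0' := hF0 hA0 (fun x => by
    simp only [LinearMap.compl₁₂_apply]
    exact hSa _ (hπm x))
  rw [hPWs] at hFi hFn
  haveI := Fintype.ofFinite Mv
  haveI := Fintype.ofFinite T
  obtain ⟨Q, hQ, hQi⟩ := exists_quadratic (Nat.coprime_two_right.mp hcop) (subRep ρ Mv hMv)
    (F.compl₁₂ Mv.subtype Mv.subtype) (fun x => hF0' _) (fun c x y => hFi c _ x.2 _ y.2)
  obtain ⟨θ', hθ'⟩ := weight_of_quadratic hcop (subRep ρ Mv hMv) Q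
    (fun x y => F x y) hQ (fun x x' y => by simp)
    (fun x y => by
      have h := hF0' ((x : U) + y)
      simp only [map_add, LinearMap.add_apply, hF0', zero_add, add_zero] at h
      rw [← ZMod.neg_eq_self_mod_two (F (y : U) (x : U))]
      linear_combination h)
    hQi (fun c x y => hFi c _ x.2 _ y.2)
    (fun x hx => Subtype.ext (hFn _ x.2 fun y hy => hx ⟨y, hy⟩))
  exact ⟨_, weight_of_compl ρ hT hMv hinf hsup
    (isWeight_one (subRep ρ T hT) fun c u => Subtype.ext (u.2 c)) hθ'⟩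

/-- A self-dual coprime module has a weight. -/
theorem exists_weight (hcop : (Nat.card C).Coprime p) (ρ : Representation (ZMod p) C U)
    (B : LinearMap.BilinForm (ZMod p) U) (hBi : InvForm ρ B ⊤) (hBn : NDeg B ⊤) :
    ∃ θ, IsWeight ρ θ := by
  by_cases hp2 : p = 2
  · subst hp2
    exact exists_weight_two hcop ρ B hBi hBn
  · exact exists_weight_odd hcop hp2 ρ B hBi hBn

/-- Weights for an abelian group of prime exponent with an invariant pairing. -/
theorem exists_weight_group {W : Type*} [CommGroup W] [Finite W] (hcop : (Nat.card C).Coprime p)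
    (hexp : ∀ w : W, w ^ p = 1) (τ : C →* MulAut W) (β : W → W → ZMod p)
    (hl : ∀ a a' b, β (a * a') b = β a b + β a' b) (hr : ∀ a b b', β a (b * b') = β a b + β a b')
    (hi : ∀ c a b, β (τ c a) (τ c b) = β a b) (hnd : ∀ a, (∀ b, β a b = 0) → a = 1) :
    ∃ θ : C → ℂ, IsClassFunction C θ ∧ (∃ n, n ≠ 0 ∧ ∀ c, θ c ∈ rootField n) ∧
      (∀ c, IsIntegral ℤ (θ c)) ∧ θ 1 = 1 ∧
      (∀ χ, IsCharacter C χ → IsIntegral ℤ ((Fintype.card C : ℂ)⁻¹ * ∑ c, θ c * χ c)) ∧
      (∀ c, θ c * conj (θ c) * (Nat.card {w : W // τ c w = w} : ℂ) = (Nat.card W : ℂ)) ∧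
      ∀ M : Ideal AlgInt, IsPModular p M → ∀ c, (∃ w, τ c w ≠ w) →
        ∀ h : IsIntegral ℤ (θ c), (⟨θ c, h⟩ : AlgInt) ∈ M := by
  classical
  letI : Module (ZMod p) (Additive W) := AddCommGroup.zmodModule (n := p) (G := Additive W) fun x => hexp x.toMul
  haveI := Fintype.ofFinite (Additive W)
  let ρ : Representation (ZMod p) C (Additive W) :=
    { toFun := fun c => (MonoidHom.toAdditive (τ c).toMonoidHom).toZModLinearMap p
      map_one' := LinearMap.ext fun u => by
        show Additive.ofMul (τ 1 u.toMul) = u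
        rw [map_one, MulAut.one_apply, ofMul_toMul]
      map_mul' := fun a b => LinearMap.ext fun u => by
        show Additive.ofMul (τ (a * b) u.toMul) = Additive.ofMul (τ a (τ b u.toMul))
        rw [map_mul, MulAut.mul_apply] }
  have hρ : ∀ (c : C) (u : Additive W), ρ c u = Additive.ofMul (τ c u.toMul) := fun c u => rfl
  let Bl : Additive W → Additive W →+ ZMod p := fun a =>
    AddMonoidHom.mk' (fun b => β a.toMul b.toMul) fun b b' => hr _ _ _
  let B : LinearMap.BilinForm (ZMod p) (Additive W) :=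
    (AddMonoidHom.mk' (fun a => (Bl a).toZModLinearMap p) fun a a' => LinearMap.ext fun b =>
      hl _ _ _).toZModLinearMap p
  obtain ⟨θ, hθ⟩ := exists_weight hcop ρ B (fun g x _ y _ => hi g _ _)
    (fun x _ h => hnd x.toMul fun b => h (Additive.ofMul b) Submodule.mem_top)
  refine ⟨θ, hθ.cf, hθ.field, hθ.int, hθ.one, hθ.avg, fun c => ?_, fun M hM c ⟨w, hw⟩ => ?_⟩
  · have e : {u : Additive W // ρ c u = u} ≃ {w : W // τ c w = w} :=
      Equiv.subtypeEquiv Additive.toMul fun u => Iff.rfl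
    rw [← Nat.card_congr e, ← Nat.card_congr (Additive.toMul : Additive W ≃ W)]
    exact hθ.norm c
  · exact hθ.sing M hM c ⟨Additive.ofMul w, hw⟩

/-- Knörr's real-vector criterion. -/
theorem card_conjClasses_le_of_form {X : Type*} [Group X] [Finite X] (p : ℕ) [Fact p.Prime]
    (V : Subgroup X) [V.Normal] (hVexp : ∀ v ∈ V, v ^ p = 1) (hidx : ¬ p ∣ V.index)
    (hself : Subgroup.centralizer (V : Set X) = V) (G : Subgroup X)
    (hGV : Subgroup.IsComplement' V G) (v : X) (hv : v ∈ V) (U : Subgroup X) (hUV : U ≤ V)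
    (hUinv : ∀ h ∈ G, h * v * h⁻¹ = v → ∀ u ∈ U, h * u * h⁻¹ ∈ U)
    (hUfaith : ∀ h ∈ G, h * v * h⁻¹ = v → (∀ u ∈ U, h * u * h⁻¹ = u) → h = 1)
    (β : X → X → ZMod p) (hβl : ∀ u ∈ U, ∀ u' ∈ U, ∀ w ∈ U, β (u * u') w = β u w + β u' w)
    (hβr : ∀ u ∈ U, ∀ w ∈ U, ∀ w' ∈ U, β u (w * w') = β u w + β u w')
    (hβinv : ∀ h ∈ G, h * v * h⁻¹ = v → ∀ u ∈ U, ∀ w ∈ U,
      β (h * u * h⁻¹) (h * w * h⁻¹) = β u w)
    (hβnd : ∀ u ∈ U, (∀ w ∈ U, β u w = 0) → u = 1) :
    Nat.card (ConjClasses X) ≤ Nat.card V := by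
  classical
  have hp : p.Prime := Fact.out
  have hVc : ∀ u ∈ V, ∀ w ∈ V, u * w = w * u := by
    intro u hu w hw
    rw [← hself] at hu
    exact ((Subgroup.mem_centralizer_iff.mp hu) w hw).symm
  set C := G ⊓ Subgroup.centralizer ({v} : Set X) with hC
  have hCv : ∀ c : C, (c : X) * v * (c : X)⁻¹ = v := fun c => by
    rw [Subgroup.mem_centralizer_singleton_iff.mp c.2.2, mul_inv_cancel_right]
  have hcop : (Nat.card C).Coprime p := by
    refine (hp.coprime_iff_not_dvd.mpr fun h => hidx (h.trans ?_)).symm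
    exact hGV.symm.index_eq_card.symm ▸ Subgroup.card_dvd_of_le inf_le_left
  letI : CommGroup U :=
    { (inferInstance : Group U) with
      mul_comm := fun a b => Subtype.ext (hVc a (hUV a.2) b (hUV b.2)) }
  haveI := Fintype.ofFinite C
  let τ : C →* MulAut U :=
    { toFun := fun c =>
        { toFun := fun u => ⟨(c : X) * u * (c : X)⁻¹, hUinv c c.2.1 (hCv c) _ u.2⟩
          invFun := fun u => ⟨((c⁻¹ : C) : X) * u * ((c⁻¹ : C) : X)⁻¹,
            hUinv _ (c⁻¹).2.1 (hCv c⁻¹) _ u.2⟩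
          left_inv := fun u => Subtype.ext (by simp [mul_assoc])
          right_inv := fun u => Subtype.ext (by simp [mul_assoc])
          map_mul' := fun a b => Subtype.ext (by simp [mul_assoc]) }
      map_one' := MulEquiv.ext fun u => Subtype.ext (by simp)
      map_mul' := fun a b => MulEquiv.ext fun u => Subtype.ext (by simp [mul_assoc]) }
  obtain ⟨θ, hcf, hfield, hint, hone, havg, hnorm, hsing⟩ := exists_weight_group hcop
    (fun w : U => Subtype.ext (by simpa using hVexp _ (hUV w.2))) τ (fun a b => β a b)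
    (fun a a' b => hβl _ a.2 _ a'.2 _ b.2) (fun a b b' => hβr _ a.2 _ b.2 _ b'.2)
    (fun c a b => hβinv c c.2.1 (hCv c) _ a.2 _ b.2)
    (fun a h => Subtype.ext (hβnd _ a.2 fun w hw => h ⟨w, hw⟩))
  -- the sizes of the fixed subgroups
  let F : C → Subgroup X := fun c => U ⊓ Subgroup.centralizer ({(c : X)} : Set X)
  have hfix : ∀ c, Nat.card {u : U // τ c u = u} = Nat.card (F c) := by
    intro c
    refine Nat.card_congr
      { toFun := fun u => ⟨(u.1 : X), u.1.2, ?_⟩
        invFun := fun y => ⟨⟨(y : X), y.2.1⟩, ?_⟩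
        left_inv := fun u => rfl
        right_inv := fun y => rfl }
    · have h : (c : X) * u.1 * (c : X)⁻¹ = u.1 := congrArg Subtype.val u.2
      rw [mul_inv_eq_iff_eq_mul] at h
      exact Subgroup.mem_centralizer_singleton_iff.mpr h.symm
    · refine Subtype.ext ?_
      exact mul_inv_eq_iff_eq_mul.mpr (Subgroup.mem_centralizer_singleton_iff.mp y.2.2).symm
  obtain ⟨n₀, hn₀, hfld⟩ := hfield
  obtain ⟨M, hM⟩ := exists_isPModular hp
  have hcardF : ∀ c : C, 
      Nat.card ↥(V ⊓ Subgroup.centralizer ({(c : X)} : Set X)) ≤ Nat.card (F c) * U.relIndex V := by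
    intro c
    have hFV : F c = U ⊓ (V ⊓ Subgroup.centralizer ({(c : X)} : Set X)) := by
      rw [← inf_assoc, inf_eq_left.mpr hUV]
    have h1 := Subgroup.relIndex_mul_relIndex (⊥ : Subgroup X) (F c)
      (V ⊓ Subgroup.centralizer ({(c : X)} : Set X)) bot_le
      (inf_le_inf_right _ hUV)
    rw [Subgroup.relIndex_bot_left, Subgroup.relIndex_bot_left] at h1
    have h2 : (F c).relIndex (V ⊓ Subgroup.centralizer ({(c : X)} : Set X)) ≤ U.relIndex V := by
      rw [hFV, Subgroup.inf_relIndex_right]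
      exact Subgroup.relIndex_le_of_le_right inf_le_left (Subgroup.index_ne_zero_of_finite (H := U.subgroupOf V))
    rw [← h1]
    exact Nat.mul_le_mul_left _ h2
  refine Knorr.card_le_of_weight p V hVexp hidx hVc G hGV v hv C hC (Nat.card X * n₀)
    (mul_ne_zero Nat.card_pos.ne' hn₀) (dvd_mul_right _ _) θ hcf
    (fun c => rootField_mono hn₀ (mul_ne_zero Nat.card_pos.ne' hn₀) (dvd_mul_left _ _) (hfld c))
    hint hone havg (fun M hM c hc => hsing M hM c ?_ _)
    (fun c => Nat.card U / Nat.card (F c)) (fun c => ?_) (fun c => ?_) M hM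
  · by_contra hno
    push Not at hno
    refine hc (Subtype.ext (hUfaith c c.2.1 (hCv c) fun u hu => ?_))
    exact congrArg Subtype.val (hno ⟨u, hu⟩)
  · have h := hnorm c
    rw [hfix c] at h
    have hdvd : Nat.card (F c) ∣ Nat.card U := Subgroup.card_dvd_of_le inf_le_left
    have hne : (Nat.card (F c) : ℂ) ≠ 0 := Nat.cast_ne_zero.mpr Nat.card_pos.ne'
    rw [Nat.cast_div hdvd hne, eq_div_iff hne]
    exact h
  · have h1 := Subgroup.relIndex_mul_relIndex (⊥ : Subgroup X) U V bot_le hUV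
    rw [Subgroup.relIndex_bot_left, Subgroup.relIndex_bot_left] at h1
    have hdvd : Nat.card (F c) ∣ Nat.card U := Subgroup.card_dvd_of_le inf_le_left
    calc Nat.card U / Nat.card (F c) * Nat.card ↥(V ⊓ Subgroup.centralizer ({(c : X)} : Set X))
        ≤ Nat.card U / Nat.card (F c) * (Nat.card (F c) * U.relIndex V) :=
          Nat.mul_le_mul_left _ (hcardF c)
      _ = Nat.card V := by
          rw [← mul_assoc, Nat.div_mul_cancel hdvd, h1]

end CfsgLib.Blocks.KGV
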